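import Cfsg.Agent.Lib.PiClosed.Models
import Cfsg.Agent.Lib.Walter.Master
import Cfsg.Agent.Lib.Walter.Field.Torus
import Cfsg.Agent.S0483

/-!
# The simple groups with dihedral or abelian Sylow 2-subgroups

None of them is π-homogeneous for a set of odd primes meeting its order: the dihedral case by the
Gorenstein–Walter theorem, the abelian case by Walter's dichotomy and the inverted Sylow subgroups
outside the centraliser of an involution.
-/

set_option autoImplicit false
set_option linter.unusedSectionVars false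
set_option linter.style.haveILetI false

namespace Cfsg.Agent.PiClosed

open Subgroup

universe u

variable {π : Set ℕ} {G : Type u} [Group G] [Finite G]

/-- A group isomorphic to `PSL₂(q)`. -/
theorem psl_equiv_fact (hodd : ∀ p ∈ π, p ≠ 2) {F : Type} [Field F] [Fintype F]
    (hF : 3 < Fintype.card F) (e : G ≃* Matrix.ProjectiveSpecialLinearGroup (Fin 2) F)
    (hA : AutPi π G) : PiPrime π (Nat.card G) := by
  rw [Nat.card_congr e.toEquiv]
  exact psl_fact hodd hF (autPi_of_injective hA e.symm.toMonoidHom e.symm.injective)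

/-- The dihedral case. -/
theorem dihedral_fact [IsSimpleGroup G] (hodd : ∀ p ∈ π, p ≠ 2) (hnc : ¬ IsMulCommutative G)
    (S : Sylow 2 G) {m : ℕ} (hm : 2 ≤ m) (e : (S : Subgroup G) ≃* DihedralGroup m) (hA : AutPi π G) :
    PiPrime π (Nat.card G) := by
  haveI : Group.IsPerfect G := ⟨((commutator G).normal_of_characteristic.eq_bot_or_eq_top).resolve_left
    fun h => hnc ⟨⟨fun a b => commutatorElement_eq_one_iff_mul_comm.1 (by
      rw [← mem_bot, ← h, commutator_def]
      exact commutator_mem_commutator (mem_top a) (mem_top b))⟩⟩⟩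
  have hO := Walter.oddCore_eq_bot_of_simple hnc
  let e0 : G ≃* G ⧸ Cfsg.oddCore G :=
    ((QuotientGroup.quotientMulEquivOfEq hO).trans QuotientGroup.quotientBot).symm
  rcases S0483.result S m hm ⟨e⟩ with ⟨F, i1, i2, -, hF, ⟨f⟩⟩ | ⟨⟨f⟩⟩
  · exact psl_equiv_fact hodd hF (e0.trans f) hA
  · rw [Nat.card_congr (e0.trans f).toEquiv]
    exact alt7_fact hodd (autPi_of_injective hA (e0.trans f).symm.toMonoidHom
      (e0.trans f).symm.injective)

/-- The Janko-Ree case. -/
theorem janko_ree_fact [IsSimpleGroup G] (hodd : ∀ p ∈ π, p ≠ 2) (hab : SEAbelian.AbTwo G)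
    (hfield : Walter.FieldTriv G) (hJR : Walter.JRShape G) (hA : AutPi π G) :
    PiPrime π (Nat.card G) := by
  obtain ⟨-, -, t, E, E₀, F, i1, i2, -, -, -, -, hF, hF3, h⟩ := hJR
  obtain ⟨eC⟩ := Walter.nonempty_centralizer_equiv h (hfield t F E₀ (by omega) h)
  intro p hp hd hπ
  haveI := Fact.mk hp
  set X := Matrix.ProjectiveSpecialLinearGroup (Fin 2) F
  haveI : Finite X := inferInstance
  have hC : Nat.card (centralizer ({t} : Set G)) = 2 * Nat.card X := by
    rw [Nat.card_congr eC.toEquiv, Nat.card_prod, Nat.card_congr Multiplicative.toAdd, Nat.card_zmod]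
  by_cases hpX : p ∣ Nat.card X
  · exact psl_fact hodd hF3 (autPi_of_injective hA ((centralizer ({t} : Set G)).subtype.comp
      (eC.symm.toMonoidHom.comp (MonoidHom.inr _ _)))
      ((centralizer ({t} : Set G)).subtype_injective.comp (eC.symm.injective.comp fun a b h =>
        congrArg Prod.snd h))) p hp hpX hπ
  have hpC : ¬ p ∣ Nat.card (centralizer ({t} : Set G)) := fun h => by
    rw [hC] at h
    rcases hp.dvd_mul.1 h with h | h
    exacts [hodd p hπ ((Nat.prime_dvd_prime_iff_eq hp Nat.prime_two).1 h), hpX h]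
  obtain ⟨j, hj⟩ := Walter.Field.torus_fact G inferInstance hab t F h.ht h.odd (by omega) ⟨eC⟩
    p hp hd hpC
  obtain ⟨P, hP⟩ := hj.inv
  obtain ⟨⟨x, hx⟩, hxo⟩ := exists_prime_orderOf_dvd_card' (G := (P : Subgroup G)) p
    (P.dvd_card_of_dvd_card hd)
  rw [orderOf_mk] at hxo
  exact hA.false_of_inverted hodd (hP x hx) hp hπ (dvd_of_eq hxo.symm)

/-- All simple groups, given the three facts of Walter's programme. -/
theorem simpleFact (hodd : ∀ p ∈ π, p ≠ 2) (hcore : Walter.CoreFact.{u}) (hfield : Walter.FieldFact.{u})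
    (hcoat : Walter.CoatomFact.{u}) : SimpleFact.{u} π := by
  intro T _ _ hs hnc h2 hA
  haveI := hs
  obtain ⟨S⟩ := (inferInstance : Nonempty (Sylow 2 T))
  rcases (h2 S).commutative_or_dihedral with hS | ⟨m, hm, ⟨e⟩⟩
  · obtain ⟨hcent, hF, -⟩ := Walter.inputs_of_facts hcore hfield hcoat hnc S hS
    rcases Walter.main hnc S hS hcent with ⟨F, i1, i2, hq, ⟨e⟩⟩ | hJR
    · refine psl_equiv_fact hodd ?_ e hA
      rcases hq with ⟨n, hn, hq⟩ | hq
      · rw [hq]
        exact lt_of_lt_of_le (show 3 < 2 ^ 3 by norm_num) (Nat.pow_le_pow_right (by norm_num) hn)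
      · exact hq.2
    · exact janko_ree_fact hodd (SEAbelian.abTwo_of_sylow S hS) hF hJR hA
  · exact dihedral_fact hodd hnc S hm e hA

/-- π-homogeneous groups: the π'-elements form a subgroup. -/
theorem main (hodd : ∀ p ∈ π, p.Prime ∧ p ≠ 2) (hcore : Walter.CoreFact.{u})
    (hfield : Walter.FieldFact.{u}) (hcoat : Walter.CoatomFact.{u})
    (h2 : ∀ S : Sylow 2 G, IsMulCommutative S ∨ ∃ n : ℕ, Nonempty ((S : Subgroup G) ≃* DihedralGroup n))
    (hhom : (∀ H : Subgroup G, H ≠ ⊥ → (∀ p : ℕ, p.Prime → p ∣ Nat.card ↥H → p ∈ π) →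
        ∀ p : ℕ, p.Prime → p ∣ (Subgroup.centralizer (H : Set G)).relIndex (Subgroup.normalizer (H : Set G)) → p ∈ π)) :
    ∃ K : Subgroup G, ∀ x : G, x ∈ K ↔ ∀ p : ℕ, p.Prime → p ∣ orderOf x → p ∉ π :=
  (closed_of (fun p hp => (hodd p hp).2) (simpleFact (fun p hp => (hodd p hp).2) hcore hfield hcoat)
    (Nat.card G) G le_rfl (secTwo_of_hyp h2) (autPi_of_homogeneous hhom)).exists_subgroup

end Cfsg.Agent.PiClosed
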