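import Cfsg.Agent.Lib.PiClosed.Reduce
import Cfsg.Agent.Lib.Forms.DicksonDihedral
import Cfsg.Agent.Lib.Classical.SmallIso
import Cfsg.Agent.Lib.Classical.GL2

/-!
# The models: `PSL₂(q)` and `A₇`

Neither group can satisfy the homogeneity condition for a set of odd primes meeting its order.
-/

set_option autoImplicit false
set_option linter.unusedSectionVars false

namespace Cfsg.Agent.PiClosed

open Subgroup
open scoped MatrixGroups

universe u v

variable {π : Set ℕ}

theorem autPi_of_injective {G : Type u} [Group G] {K : Type v} [Group K] (h : AutPi π G) (f : K →* G)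
    (hf : Function.Injective f) : AutPi π K := by
  intro H hH hπ g hg
  obtain ⟨k, hk, hc⟩ := h (H.map f) (fun e => hH ((map_eq_bot_iff_of_injective _ hf).1 e))
    (by rwa [card_map_of_injective hf]) (f g) (le_normalizer_map _ ⟨g, hg, rfl⟩)
  refine ⟨k, hk, mem_centralizer_iff.2 fun a ha => hf ?_⟩
  rw [map_mul, map_mul, map_pow]
  exact mem_centralizer_iff.1 hc (f a) ⟨a, ha, rfl⟩

/-- A prime of `π` does not divide the order of an inverted element. -/
theorem AutPi.false_of_inverted {G : Type u} [Group G] [Finite G] (hodd : ∀ p ∈ π, p ≠ 2)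
    (h : AutPi π G) {c y : G} (hy : y * c * y⁻¹ = c⁻¹) {p : ℕ} (hp : p.Prime) (hπ : p ∈ π)
    (hd : p ∣ orderOf c) : False := by
  have ho : orderOf (c ^ (orderOf c / p)) = p := orderOf_pow_orderOf_div (orderOf_pos c).ne' hd
  exact h.false_of_real hodd (ho.symm ▸ hp) (ho.symm ▸ hπ)
    (x := c ^ (orderOf c / p)) (y := y) (by rw [← conj_pow, hy, inv_pow])

section psl

variable {F : Type v} [Field F] [Fintype F]

local notation "PG" => Matrix.ProjectiveSpecialLinearGroup (Fin 2) F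

open Forms.KleinPSL Classical.GL2

theorem diag_mul_uni (u : Fˣ) (a : F) :
    Classical.Torus.diagHom u * uniSL a = uniSL ((u : F) ^ 2 * a) * Classical.Torus.diagHom u := by
  refine sl_ext ?_
  show !![(u : F), 0; 0, (u⁻¹ : Fˣ)] * !![1, a; 0, 1] =
    !![1, (u : F) ^ 2 * a; 0, 1] * !![(u : F), 0; 0, (u⁻¹ : Fˣ)]
  ext i j
  fin_cases i <;> fin_cases j <;> simp
  field_simp

theorem uni_injective : Function.Injective ((pi F).comp (uniHom F)) := by
  refine (injective_iff_map_eq_one _).2 fun c hc => ?_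
  rcases pi_eq_one.1 hc with e | e
  all_goals
    have h01 := congrFun (congrFun (congrArg Subtype.val e) 0) 1
    simp [coe_uniHom] at h01
    exact Multiplicative.toAdd.injective (by simpa using h01)

/-- In `PSL₂(q)`, `q > 3`, some element inverted by another has an odd prime of `π` in its order
as soon as an odd prime of `π` divides the order of the group. -/
theorem psl_general (hF : 3 < Fintype.card F) (hA : AutPi π PG)
    (hinv : ∀ c y : PG, y * c * y⁻¹ = c⁻¹ → ∀ r : ℕ, r.Prime → r ∈ π → r ≠ 2 → ¬ r ∣ orderOf c)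
    {p : ℕ} (hp : p.Prime) (hπ : p ∈ π) (hp2 : p ≠ 2) (hd : p ∣ Nat.card PG) : False := by
  classical
  haveI : Finite PG := inferInstance
  set q := Fintype.card F with hq
  have tori : ∀ (r : ℕ) (m : ℕ), r.Prime → r ∈ π → r ≠ 2 → r ∣ m → (m = q + 1 ∨ m = q - 1) → False := by
    intro r m hr hrπ hr2 hrm hm
    have hdiv : r ∣ m / Nat.gcd 2 (q - 1) := by
      have hg : Nat.gcd 2 (q - 1) ∣ m := by
        rcases hm with rfl | rfl
        · rcases (Nat.dvd_prime Nat.prime_two).1 (Nat.gcd_dvd_left 2 (q - 1)) with h | h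
          · rw [h]; exact one_dvd _
          · have h2 : 2 ∣ q - 1 := h ▸ Nat.gcd_dvd_right 2 (q - 1)
            rw [h]; omega
        · exact Nat.gcd_dvd_right _ _
      obtain ⟨c, hc⟩ := hg
      have hg0 : 0 < Nat.gcd 2 (q - 1) := Nat.gcd_pos_of_pos_left _ two_pos
      rw [hc, Nat.mul_div_cancel_left c hg0]
      rw [hc] at hrm
      rcases hr.dvd_mul.1 hrm with h | h
      · exact absurd ((Nat.prime_dvd_prime_iff_eq hr Nat.prime_two).1
          (h.trans (Nat.gcd_dvd_left _ _))) hr2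
      · exact h
    rcases hm with rfl | rfl
    · obtain ⟨-, -, -, c, -, y, -, hc, hy⟩ := Forms.DicksonDihedral.exists_plus (F := F)
      exact hinv c y hy r hr hrπ hr2 (hc.symm ▸ hdiv)
    · obtain ⟨-, -, -, c, -, y, -, hc, hy⟩ := Forms.DicksonDihedral.exists_minus (F := F)
      exact hinv c y hy r hr hrπ hr2 (hc.symm ▸ hdiv)
  have hsl := Classical.SmallIso.natCard_pslTwo F
  rw [Classical.GL2.natCard_SL_two] at hsl
  have hd' : p ∣ q * ((q - 1) * (q + 1)) := hsl ▸ hd.mul_left _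
  rcases hp.dvd_mul.1 hd' with hpq | h
  swap
  · rcases hp.dvd_mul.1 h with h | h
    · exact tori p _ hp hπ hp2 h (Or.inr rfl)
    · exact tori p _ hp hπ hp2 h (Or.inl rfl)
  -- the characteristic
  obtain ⟨n, hc, hn⟩ := FiniteField.card F (ringChar F)
  rw [← hq] at hn
  have hpc : p = ringChar F :=
    (Nat.prime_dvd_prime_iff_eq hp hc).1 (hp.dvd_of_dvd_pow (hn ▸ hpq))
  have hq2 : ¬ 2 ∣ q := fun h => hp2 (hpc.trans
    ((Nat.prime_dvd_prime_iff_eq Nat.prime_two hc).1 (Nat.prime_two.dvd_of_dvd_pow (hn ▸ h))).symm)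
  set φ := (pi F).comp (uniHom F) with hφ
  have hcard : Nat.card φ.range = q := by
    rw [← Nat.card_congr (MonoidHom.ofInjective (uni_injective (F := F))).toEquiv,
      Nat.card_congr Multiplicative.toAdd, Nat.card_eq_fintype_card]
  obtain ⟨u, hu⟩ := IsCyclic.exists_generator (α := Fˣ)
  set t : PG := pi F (Classical.Torus.diagHom u) with ht
  have hconj : ∀ (v : Fˣ) (a : F), pi F (Classical.Torus.diagHom v) * φ (Multiplicative.ofAdd a) *
      (pi F (Classical.Torus.diagHom v))⁻¹ = φ (Multiplicative.ofAdd ((v : F) ^ 2 * a)) := by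
    intro v a
    rw [mul_inv_eq_iff_eq_mul]
    show pi F _ * pi F (uniSL a) = pi F (uniSL _) * pi F _
    rw [← map_mul, ← map_mul, diag_mul_uni]; rfl
  have htN : t ∈ normalizer (φ.range : Set PG) := by
    refine mem_normalizer_iff_map_conj_eq.2 (eq_of_le_of_card_ge ?_ (le_of_eq
      (card_map_of_injective (MulAut.conj t).injective).symm))
    rintro _ ⟨_, ⟨c, rfl⟩, rfl⟩
    exact ⟨_, (hconj u c.toAdd).symm⟩
  have hne : φ.range ≠ ⊥ := fun e => by
    rw [e, card_bot] at hcard; omega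
  obtain ⟨k, hk, hk'⟩ := hA φ.range hne (fun r hr hd => by
    rw [hcard, hn] at hd
    rwa [(Nat.prime_dvd_prime_iff_eq hr hc).1 (hr.dvd_of_dvd_pow hd), ← hpc]) t htN
  -- the order of the action
  have h1 := hconj (u ^ k) 1
  rw [map_pow, map_pow, ← ht, ← mem_centralizer_iff.1 hk' _ ⟨Multiplicative.ofAdd 1, rfl⟩,
    mul_inv_cancel_right] at h1
  have h2 : (u ^ k) ^ 2 = 1 := by
    have h3 := Multiplicative.ofAdd.injective (uni_injective h1)
    rw [mul_one] at h3
    exact Units.ext (by push_cast at h3 ⊢; exact h3.symm)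
  have h4 : q - 1 ∣ k * 2 := by
    rw [← Fintype.card_units, ← Nat.card_eq_fintype_card, ← orderOf_eq_card_of_forall_mem_zpowers hu]
    exact orderOf_dvd_of_pow_eq_one (by rw [pow_mul, h2])
  obtain ⟨j, hj⟩ : 2 ∣ q - 1 := by omega
  have hjk : j ∣ k := by
    obtain ⟨z, hz⟩ := h4
    exact ⟨z, by rw [hj] at hz; linarith⟩
  rcases Nat.even_or_odd j with ⟨i, hi⟩ | hjo
  · -- a square root of `-1` inverts the root group
    have hu4 : orderOf u = q - 1 := by
      rw [orderOf_eq_card_of_forall_mem_zpowers hu, Nat.card_eq_fintype_card, Fintype.card_units]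
    have hne1 : u ^ j ≠ 1 := pow_ne_one_of_lt_orderOf (by omega) (by omega)
    have hneg : ((u ^ i : Fˣ) : F) ^ 2 = -1 := by
      have hsq : ((u ^ j : Fˣ) : F) * ((u ^ j : Fˣ) : F) = 1 := by
        rw [← Units.val_mul, ← pow_add, show j + j = q - 1 by omega, ← hu4, pow_orderOf_eq_one, Units.val_one]
      rw [← Units.val_pow_eq_pow_val, ← pow_mul, show i * 2 = j by omega]
      exact (mul_self_eq_one_iff.1 hsq).resolve_left fun e => hne1 (Units.ext e)
    set x := φ (Multiplicative.ofAdd (1 : F))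
    have hx : orderOf x = p := by
      haveI := Fact.mk hp
      refine orderOf_eq_prime ?_ fun e => ?_
      · rw [← map_pow, ← ofAdd_nsmul, nsmul_eq_mul, mul_one, hpc, ringChar.Nat.cast_ringChar, ofAdd_zero, map_one]
      · exact one_ne_zero (Multiplicative.ofAdd.injective (uni_injective (e.trans (map_one φ).symm)))
    refine hinv x (pi F (Classical.Torus.diagHom (u ^ i))) ?_ p hp hπ hp2 (dvd_of_eq hx.symm)
    rw [hconj, hneg, mul_one, ofAdd_neg, map_inv]
  · have hl := Nat.minFac_prime (show j ≠ 1 by omega)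
    exact tori _ (q - 1) hl (hk _ hl ((Nat.minFac_dvd j).trans hjk))
      (fun e => Nat.not_even_iff_odd.2 hjo (even_iff_two_dvd.2 (e ▸ Nat.minFac_dvd j)))
      ((Nat.minFac_dvd j).trans ⟨2, by rw [hj, mul_comm]⟩) (Or.inr rfl)

/-- In `PSL₂(q)`, `q > 3`, no prime of `π` divides the order. -/
theorem psl_fact (hodd : ∀ p ∈ π, p ≠ 2) (hF : 3 < Fintype.card F) (hA : AutPi π PG) :
    PiPrime π (Nat.card PG) := fun p hp hd hπ =>
  psl_general hF hA (fun _ _ hy r hr hrπ _ hrd => hA.false_of_inverted hodd hy hr hrπ hrd) hp hπ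
    (hodd p hπ) hd

end psl

section alt

theorem alt7_facts : ∃ a b c d x y : alternatingGroup (Fin 7),
    orderOf a = 3 ∧ b * a * b⁻¹ = a⁻¹ ∧ orderOf c = 5 ∧ d * c * d⁻¹ = c⁻¹ ∧
    orderOf x = 7 ∧ y * x * y⁻¹ = x ^ 2 ∧ y ^ 3 = 1 := by
  let sw : Fin 7 → Fin 7 → Equiv.Perm (Fin 7) := Equiv.swap
  refine ⟨⟨sw 0 1 * sw 1 2, Equiv.Perm.mem_alternatingGroup.2 (by decide +kernel)⟩, ⟨sw 1 2 * sw 3 4, Equiv.Perm.mem_alternatingGroup.2 (by decide +kernel)⟩,
    ⟨sw 0 1 * sw 1 2 * sw 2 3 * sw 3 4, Equiv.Perm.mem_alternatingGroup.2 (by decide +kernel)⟩, ⟨sw 1 4 * sw 2 3, Equiv.Perm.mem_alternatingGroup.2 (by decide +kernel)⟩,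
    ⟨finRotate 7, Equiv.Perm.mem_alternatingGroup.2 (by decide +kernel)⟩, ⟨sw 1 2 * sw 2 4 * sw 3 6 * sw 6 5, Equiv.Perm.mem_alternatingGroup.2 (by decide +kernel)⟩, ?_, ?_, ?_, ?_, ?_, ?_, ?_⟩
  · exact orderOf_eq_prime (hp := ⟨Nat.prime_three⟩) (by decide +kernel) (by decide +kernel)
  · decide +kernel
  · exact orderOf_eq_prime (hp := ⟨Nat.prime_five⟩) (by decide +kernel) (by decide +kernel)
  · decide +kernel
  · exact orderOf_eq_prime (hp := ⟨by norm_num⟩) (by decide +kernel) (by decide +kernel)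
  · decide +kernel
  · decide +kernel

/-- In `A₇` no prime of `π` divides the order. -/
theorem alt7_fact (hodd : ∀ p ∈ π, p ≠ 2) (hA : AutPi π (alternatingGroup (Fin 7))) :
    PiPrime π (Nat.card (alternatingGroup (Fin 7))) := by
  obtain ⟨a, b, c, d, x, y, ha, hb, hc, hd, hx, hy, hy3⟩ := alt7_facts
  have h3 : (3 : ℕ) ∉ π := fun h => hA.false_of_inverted hodd hb Nat.prime_three h (dvd_of_eq ha.symm)
  intro p hp hpd hπ
  have hcard : Nat.card (alternatingGroup (Fin 7)) = 2 ^ 3 * 3 ^ 2 * 5 * 7 := by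
    rw [nat_card_alternatingGroup, Nat.card_fin]; decide
  rw [hcard] at hpd
  rcases hp.dvd_mul.1 hpd with h | h
  · rcases hp.dvd_mul.1 h with h | h
    · rcases hp.dvd_mul.1 h with h | h
      · exact hodd p hπ ((Nat.prime_dvd_prime_iff_eq hp Nat.prime_two).1 (hp.dvd_of_dvd_pow h))
      · exact h3 ((Nat.prime_dvd_prime_iff_eq hp Nat.prime_three).1 (hp.dvd_of_dvd_pow h) ▸ hπ)
    · obtain rfl := (Nat.prime_dvd_prime_iff_eq hp Nat.prime_five).1 h
      exact hA.false_of_inverted hodd hd Nat.prime_five hπ (dvd_of_eq hc.symm)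
  · obtain rfl := (Nat.prime_dvd_prime_iff_eq hp (by norm_num)).1 h
    have hne : zpowers x ≠ ⊥ := zpowers_ne_bot.2 fun e => by rw [e, orderOf_one] at hx; omega
    have hyN : y ∈ normalizer (zpowers x : Set (alternatingGroup (Fin 7))) := by
      refine mem_normalizer_iff_map_conj_eq.2 (eq_of_le_of_card_ge ?_ (le_of_eq
        (card_map_of_injective (MulAut.conj y).injective).symm))
      rw [MonoidHom.map_zpowers, zpowers_le]
      show y * x * y⁻¹ ∈ zpowers x
      rw [hy]
      exact pow_mem (mem_zpowers x) 2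
    have hyc := hA.mem_centralizer hne (fun r hr hrd => by
        rw [Nat.card_zpowers, hx] at hrd
        rwa [(Nat.prime_dvd_prime_iff_eq hr hp).1 hrd]) hyN fun r hr hrd =>
      ((Nat.prime_dvd_prime_iff_eq hr Nat.prime_three).1
        (hrd.trans (orderOf_dvd_of_pow_eq_one hy3))) ▸ h3
    have h1 : x ^ 2 = x := by
      rw [← hy, mul_inv_eq_iff_eq_mul]
      exact (mem_centralizer_iff.1 hyc x (mem_zpowers x)).symm
    rw [pow_two, mul_eq_left] at h1
    rw [h1, orderOf_one] at hx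
    omega

end alt

end Cfsg.Agent.PiClosed
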