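import Mathlib
import Cfsg.Agent.Lib.Classical.CyclicExt
import Cfsg.Agent.Lib.Coprime.SchurZassenhaus
import Cfsg.Agent.S0205

/-!
# π-homogeneous groups with dihedral or abelian Sylow 2-subgroups: reduction to simple groups

`π` is a set of odd primes. If every automiser of a nontrivial π-subgroup is a π-group then the
π'-elements form a subgroup, provided no simple group with the same properties has order divisible
by a prime of π.
-/

set_option autoImplicit false
set_option linter.unusedSectionVars false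
set_option linter.style.haveILetI false

namespace Cfsg.Agent.PiClosed

open Subgroup
open scoped Pointwise

universe u v

/-- All prime divisors of `n` lie in `π`. -/
def PiNum (π : Set ℕ) (n : ℕ) : Prop := ∀ p : ℕ, p.Prime → p ∣ n → p ∈ π

/-- No prime divisor of `n` lies in `π`. -/
def PiPrime (π : Set ℕ) (n : ℕ) : Prop := ∀ p : ℕ, p.Prime → p ∣ n → p ∉ π

theorem coprime_of_piNum {π : Set ℕ} {a b : ℕ} (ha : PiPrime π a) (hb : PiNum π b) : a.Coprime b :=
  Nat.coprime_of_dvd fun p hp h1 h2 => ha p hp h1 (hb p hp h2)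

/-- Some π-power of every element normalising a nontrivial π-subgroup centralises it. -/
def AutPi (π : Set ℕ) (G : Type u) [Group G] : Prop :=
  ∀ H : Subgroup G, H ≠ ⊥ → PiNum π (Nat.card H) → ∀ g ∈ normalizer (H : Set G),
    ∃ k : ℕ, PiNum π k ∧ g ^ k ∈ centralizer (H : Set G)

/-- Commutative, or a section of a dihedral group. -/
def SecDih (S : Type u) [Group S] : Prop :=
  IsMulCommutative S ∨ ∃ (n : ℕ) (D : Subgroup (DihedralGroup n)) (f : D →* S), Function.Surjective f

/-- The Sylow 2-subgroups are commutative or sections of dihedral groups. -/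
def SecTwo (G : Type u) [Group G] : Prop := ∀ S : Sylow 2 G, SecDih ↥(S : Subgroup G)

/-- Of a π'-subgroup and a π-subgroup one is solvable. -/
def SolvEither (π : Set ℕ) : Prop :=
  ∀ {G : Type u} [Group G] [Finite G] (R H : Subgroup G), PiPrime π (Nat.card R) →
    PiNum π (Nat.card H) → Group.IsSolvable ↥R ∨ Group.IsSolvable ↥H

theorem solvEither_of_odd {π : Set ℕ} (hodd : ∀ p ∈ π, p ≠ 2) : SolvEither.{u} π :=
  fun _ H _ hH => Or.inr (S0205.result (Nat.not_even_iff_odd.1 fun he =>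
    hodd 2 (hH 2 Nat.prime_two (even_iff_two_dvd.1 he)) rfl))

theorem solvEither_of_two {π : Set ℕ} (h2 : 2 ∈ π) : SolvEither.{u} π :=
  fun R _ hR _ => Or.inl (S0205.result (Nat.not_even_iff_odd.1 fun he =>
    hR 2 Nat.prime_two (even_iff_two_dvd.1 he) h2))

/-- The π'-elements form a normal subgroup. -/
def Closed (π : Set ℕ) (G : Type u) [Group G] : Prop :=
  ∃ K : Subgroup G, K.Normal ∧ PiPrime π (Nat.card K) ∧ PiNum π K.index

section SecDih

variable {S : Type u} [Group S] {T : Type v} [Group T]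

theorem SecDih.of_section (h : SecDih S) (A : Subgroup S) (g : A →* T) (hg : Function.Surjective g) :
    SecDih T := by
  rcases h with h | ⟨n, D, f, hf⟩
  · refine Or.inl ⟨⟨fun x y => ?_⟩⟩
    obtain ⟨a, rfl⟩ := hg x
    obtain ⟨b, rfl⟩ := hg y
    rw [← map_mul, ← map_mul]
    exact congrArg g (Subtype.ext (mul_comm' (a : S) (b : S)))
  · refine Or.inr ⟨n, (A.comap f).map D.subtype, ?_⟩
    let e : ↥((A.comap f).map D.subtype) ≃* ↥(A.comap f) :=
      ((A.comap f).equivMapOfInjective D.subtype D.subtype_injective).symm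
    let r : ↥(A.comap f) →* ↥A := (f.comp (A.comap f).subtype).codRestrict A fun x => x.2
    refine ⟨(g.comp r).comp e.toMonoidHom, (hg.comp fun a => ?_).comp e.surjective⟩
    obtain ⟨d, hd⟩ := hf a
    exact ⟨⟨d, show f d ∈ A from hd ▸ a.2⟩, Subtype.ext hd⟩

theorem SecDih.of_equiv (h : SecDih S) (e : S ≃* T) : SecDih T :=
  h.of_section ⊤ (e.toMonoidHom.comp (⊤ : Subgroup S).subtype) fun t =>
    ⟨⟨e.symm t, mem_top _⟩, e.apply_symm_apply t⟩

/-- A section of a dihedral group is commutative or dihedral. -/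
theorem SecDih.commutative_or_dihedral [Finite S] (h : SecDih S) :
    IsMulCommutative S ∨ ∃ m : ℕ, 2 ≤ m ∧ Nonempty (S ≃* DihedralGroup m) := by
  rcases h with h | ⟨n, D, f, hf⟩
  · exact Or.inl h
  by_cases hnc : IsMulCommutative S
  · exact Or.inl hnc
  right
  set Rn : Subgroup (DihedralGroup n) := zpowers (DihedralGroup.r 1) with hRn
  have hr : ∀ i : ZMod n, DihedralGroup.r i ∈ Rn := fun i => by
    obtain ⟨k, rfl⟩ := ZMod.intCast_surjective i
    exact ⟨k, by simp [DihedralGroup.r_one_zpow]⟩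
  haveI : IsCyclic ↥Rn := isCyclic_zpowers _
  haveI : IsCyclic ↥(Rn.subgroupOf D) :=
    isCyclic_of_injective ((D.subtype.comp (Rn.subgroupOf D).subtype).codRestrict Rn fun x => x.2)
      fun x y e => Subtype.ext (Subtype.ext (congrArg (fun z : ↥Rn => (z : DihedralGroup n)) e))
  haveI : IsCyclic ↥((Rn.subgroupOf D).map f) :=
    isCyclic_of_surjective (f.subgroupMap _) (f.subgroupMap_surjective _)
  obtain ⟨c, hc⟩ := (Subgroup.isCyclic_iff_exists_zpowers_eq_top _).1 ‹IsCyclic ↥((Rn.subgroupOf D).map f)›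
  obtain ⟨j, hj⟩ : ∃ j : ZMod n, DihedralGroup.sr j ∈ D := by
    by_contra hcon
    push Not at hcon
    have hall : ∀ s : S, s ∈ zpowers c := fun s => by
      obtain ⟨⟨d, hd⟩, rfl⟩ := hf s
      rw [hc]
      cases d with
      | r i => exact ⟨_, hr i, rfl⟩
      | sr i => exact absurd hd (hcon i)
    refine hnc ⟨⟨fun a b => ?_⟩⟩
    obtain ⟨i, rfl⟩ := hall a
    obtain ⟨k, rfl⟩ := hall b
    exact (Commute.zpow_zpow (Commute.refl c) i k).eq
  set y : S := f ⟨DihedralGroup.sr j, hj⟩ with hy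
  have hyy : y * y = 1 := by
    rw [hy, ← map_mul]
    exact (congrArg f (Subtype.ext (show DihedralGroup.sr j * DihedralGroup.sr j = 1 from DihedralGroup.sr_mul_self j))).trans f.map_one
  have hinv : y * c * y⁻¹ = c⁻¹ := by
    obtain ⟨⟨d, hdD⟩, hdR, hd⟩ : c ∈ (Rn.subgroupOf D).map f := hc ▸ mem_zpowers c
    obtain ⟨k, hk⟩ := mem_zpowers_iff.1 (hdR : d ∈ Rn)
    obtain ⟨i, rfl⟩ : ∃ i, d = DihedralGroup.r i := ⟨(k : ZMod n), by
      rw [DihedralGroup.r_one_zpow] at hk
      exact hk.symm⟩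
    rw [hy, ← hd, ← map_inv, ← map_inv, ← map_mul, ← map_mul]
    refine congrArg f (Subtype.ext ?_)
    show DihedralGroup.sr j * DihedralGroup.r i * (DihedralGroup.sr j)⁻¹ = (DihedralGroup.r i)⁻¹
    rw [mul_inv_eq_iff_eq_mul]
    simp [DihedralGroup.inv_r]
  have hcov : ∀ s : S, s ∈ zpowers c ∨ ∃ z ∈ zpowers c, s = y * z := by
    intro s
    obtain ⟨⟨d, hd⟩, rfl⟩ := hf s
    cases d with
    | r i => exact Or.inl (hc ▸ ⟨_, hr i, rfl⟩)
    | sr i =>
      refine Or.inr ⟨f (⟨DihedralGroup.sr j, hj⟩⁻¹ * ⟨DihedralGroup.sr i, hd⟩),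
        hc ▸ ⟨_, ?_, rfl⟩, ?_⟩
      · rw [hy, ← map_mul, mul_inv_cancel_left]
      · show (DihedralGroup.sr j)⁻¹ * DihedralGroup.sr i ∈ Rn
        simp [hr]
  have hyc : y ∉ zpowers c := fun hyc => by
    refine hnc ⟨⟨fun a b => ?_⟩⟩
    have hall : ∀ s : S, s ∈ zpowers c := fun s => by
      rcases hcov s with h | ⟨z, hz, rfl⟩
      exacts [h, mul_mem hyc hz]
    obtain ⟨i, rfl⟩ := hall a
    obtain ⟨k, rfl⟩ := hall b
    exact (Commute.zpow_zpow (Commute.refl c) i k).eq
  obtain ⟨φ, hφ, hcφ, hyφ⟩ := Classical.CyclicExt.exists_dihedral_hom c y rfl hyy hinv hyc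
  have hsur : Function.Surjective φ := fun s => by
    have hz : ∀ z ∈ zpowers c, z ∈ φ.range := fun z hz => (zpowers_le.2 hcφ) hz
    rcases hcov s with h | ⟨z, hz', rfl⟩
    exacts [hz s h, mul_mem hyφ (hz z hz')]
  refine ⟨orderOf c, ?_, ⟨(MulEquiv.ofBijective φ ⟨hφ, hsur⟩).symm⟩⟩
  by_contra h
  have hc1 : c = 1 := orderOf_eq_one_iff.1 (by have := orderOf_pos c; omega)
  refine hnc ⟨⟨fun a b => ?_⟩⟩
  have hall : ∀ s : S, s = 1 ∨ s = y := fun s => by
    rcases hcov s with h | ⟨z, hz, rfl⟩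
    · exact Or.inl (mem_bot.1 (by rwa [hc1, zpowers_one_eq_bot] at h))
    · rw [hc1, zpowers_one_eq_bot, mem_bot] at hz
      exact Or.inr (by rw [hz, mul_one])
  rcases hall a with rfl | rfl <;> rcases hall b with rfl | rfl <;> simp

end SecDih

variable {π : Set ℕ} {G : Type u} [Group G] [Finite G]

theorem secTwo_subgroup (h : SecTwo G) (K : Subgroup G) : SecTwo ↥K := by
  intro P
  haveI : Fact (Nat.Prime 2) := ⟨Nat.prime_two⟩
  obtain ⟨S, hS⟩ := IsPGroup.exists_le_sylow (P.2.map K.subtype)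
  refine ((h S).of_section (((P : Subgroup ↥K).map K.subtype).subgroupOf (S : Subgroup G))
    (subgroupOfEquivOfLe hS).toMonoidHom (subgroupOfEquivOfLe hS).surjective).of_equiv
    ((P : Subgroup ↥K).equivMapOfInjective K.subtype K.subtype_injective).symm

theorem secTwo_quotient (h : SecTwo G) (R : Subgroup G) [R.Normal] : SecTwo (G ⧸ R) := by
  intro P
  haveI : Fact (Nat.Prime 2) := ⟨Nat.prime_two⟩
  obtain ⟨S, hS⟩ := Sylow.mapSurjective_surjective (QuotientGroup.mk'_surjective R) 2 P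
  subst hS
  exact (h S).of_section ⊤
    (((QuotientGroup.mk' R).subgroupMap (S : Subgroup G)).comp (⊤ : Subgroup ↥(S : Subgroup G)).subtype)
    fun x => by
      obtain ⟨a, ha⟩ := (QuotientGroup.mk' R).subgroupMap_surjective (S : Subgroup G) x
      exact ⟨⟨a, mem_top a⟩, ha⟩

theorem autPi_subgroup (h : AutPi π G) (K : Subgroup G) : AutPi π ↥K := by
  intro H hH hπ g hg
  obtain ⟨k, hk, hc⟩ := h (H.map K.subtype) (fun e => hH ((Subgroup.map_eq_bot_iff_of_injective _
    K.subtype_injective).1 e)) (by rwa [card_subtype]) g (le_normalizer_map _ ⟨g, hg, rfl⟩)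
  refine ⟨k, hk, mem_centralizer_iff.2 fun a ha => Subtype.ext ?_⟩
  exact mem_centralizer_iff.1 hc (a : G) ⟨a, ha, rfl⟩

theorem map_comap_mk' {R : Subgroup G} [R.Normal] (H : Subgroup (G ⧸ R)) :
    (H.comap (QuotientGroup.mk' R)).map (QuotientGroup.mk' R) = H :=
  map_comap_eq_self_of_surjective (QuotientGroup.mk'_surjective R) H

theorem card_comap_mk {R : Subgroup G} [R.Normal] (H : Subgroup (G ⧸ R)) :
    Nat.card ↥(H.comap (QuotientGroup.mk' R)) = Nat.card R * Nat.card H := by
  let f := (QuotientGroup.mk' R).subgroupComap H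
  have hs : Function.Surjective f :=
    MonoidHom.subgroupComap_surjective_of_surjective _ H (QuotientGroup.mk'_surjective R)
  have hker : f.ker = R.subgroupOf (H.comap (QuotientGroup.mk' R)) := by
    ext x
    rw [MonoidHom.mem_ker, mem_subgroupOf, ← QuotientGroup.eq_one_iff (N := R) (x : G),
      Subtype.ext_iff]
    rfl
  rw [card_eq_card_quotient_mul_card_subgroup f.ker,
    Nat.card_congr (QuotientGroup.quotientKerEquivOfSurjective f hs).toEquiv, hker,
    Nat.card_congr (subgroupOfEquivOfLe (le_comap_mk' R H)).toEquiv, mul_comm]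
where
  le_comap_mk' (R : Subgroup G) [R.Normal] (H : Subgroup (G ⧸ R)) :
      R ≤ H.comap (QuotientGroup.mk' R) := fun x hx => by
    rw [mem_comap, QuotientGroup.mk'_apply, (QuotientGroup.eq_one_iff x).2 hx]
    exact one_mem H

/-- A quotient by a normal π-subgroup. -/
theorem autPi_quotient_pi (h : AutPi π G) (R : Subgroup G) [R.Normal] (hR : PiNum π (Nat.card R)) :
    AutPi π (G ⧸ R) := by
  intro H hH hπ g hg
  obtain ⟨g, rfl⟩ := QuotientGroup.mk'_surjective R g
  set M := H.comap (QuotientGroup.mk' R) with hM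
  have hgM : g ∈ normalizer (M : Set G) := mem_normalizer_iff.2 fun x => by
    simp only [hM, mem_comap, map_mul, map_inv]
    exact mem_normalizer_iff.1 hg _
  have hMne : M ≠ ⊥ := fun e => hH (by rw [← map_comap_mk' H, ← hM, e, Subgroup.map_bot])
  obtain ⟨k, hk, hc⟩ := h M hMne (fun p hp hd => by
    rw [hM, card_comap_mk] at hd
    rcases hp.dvd_mul.1 hd with h' | h'
    exacts [hR p hp h', hπ p hp h']) g hgM
  refine ⟨k, hk, mem_centralizer_iff.2 fun a ha => ?_⟩
  obtain ⟨a, rfl⟩ := QuotientGroup.mk'_surjective R a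
  rw [← map_pow, ← map_mul, ← map_mul, mem_centralizer_iff.1 hc a ha]

/-- A quotient by a normal π'-subgroup. -/
theorem autPi_quotient_piPrime (hsol : SolvEither.{u} π) (h : AutPi π G) (R : Subgroup G) [R.Normal]
    (hR : PiPrime π (Nat.card R)) : AutPi π (G ⧸ R) := by
  intro H hH hπ g hg
  obtain ⟨g, rfl⟩ := QuotientGroup.mk'_surjective R g
  set M := H.comap (QuotientGroup.mk' R) with hM
  have hRM : R ≤ M := card_comap_mk.le_comap_mk' R H
  have hcop : (Nat.card R).Coprime (Nat.card H) := coprime_of_piNum hR hπ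
  have hMR : Nat.card ↥(R.subgroupOf M) = Nat.card R := Nat.card_congr (subgroupOfEquivOfLe hRM).toEquiv
  have hidx : (R.subgroupOf M).index = Nat.card H := by
    have := (R.subgroupOf M).card_mul_index
    rw [hMR, card_comap_mk] at this
    exact Nat.eq_of_mul_eq_mul_left Nat.card_pos this
  obtain ⟨K, hK⟩ := exists_right_complement'_of_coprime (N := R.subgroupOf M) (by rwa [hMR, hidx])
  set H₁ := K.map M.subtype with hH₁
  have hcard : Nat.card H₁ = Nat.card H := by
    rw [hH₁, card_subtype, ← hK.symm.index_eq_card, hidx]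
  have hsup : R ⊔ H₁ = M := by
    have := congrArg (Subgroup.map M.subtype) hK.sup_eq_top
    rwa [Subgroup.map_sup, subgroupOf_map_subtype, inf_eq_left.2 hRM, ← MonoidHom.range_eq_map,
      M.range_subtype, ← hH₁] at this
  set H₂ := H₁.map (MulAut.conj g).toMonoidHom with hH₂
  have hgM : M.map (MulAut.conj g).toMonoidHom = M := by
    refine mem_normalizer_iff_map_conj_eq.mp (mem_normalizer_iff.2 fun x => ?_)
    simp only [hM, mem_comap, map_mul, map_inv]
    exact mem_normalizer_iff.1 hg _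
  have hgR : R.map (MulAut.conj g).toMonoidHom = R :=
    mem_normalizer_iff_map_conj_eq.mp (le_normalizer_of_normal (mem_top g))
  have heq : R ⊔ H₂ = R ⊔ H₁ := by
    rw [hsup, hH₂]
    conv_lhs => rw [← hgR]
    rw [← Subgroup.map_sup, hsup, hgM]
  have hcard₂ : Nat.card H₂ = Nat.card H :=
    (Nat.card_congr (H₁.equivMapOfInjective _ (MulAut.conj g).injective).toEquiv).symm.trans hcard
  have hH₂π : PiNum π (Nat.card H₂) := hcard₂.symm ▸ hπ
  obtain ⟨x, hx, hxe⟩ := Coprime.exists_conj_eq_of_sup_eq le_normalizer_of_normal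
    le_normalizer_of_normal heq (hcard₂.symm ▸ hcop) (hcard.symm ▸ hcop) (hsol R H₂ hR hH₂π)
  have hmk : QuotientGroup.mk' R (x * g) = QuotientGroup.mk' R g := by
    rw [map_mul, QuotientGroup.mk'_apply R x, (QuotientGroup.eq_one_iff x).2 hx, one_mul]
  have hxg : x * g ∈ normalizer (H₁ : Set G) := by
    rw [mem_normalizer_iff_map_conj_eq]
    conv_rhs => rw [← hxe]
    show H₁.map (MulAut.conj (x * g)).toMonoidHom =
      (H₁.map (MulAut.conj g).toMonoidHom).map (MulAut.conj x).toMonoidHom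
    rw [Subgroup.map_map H₁]
    refine congrArg (fun f : G →* G => H₁.map f) ?_
    ext y
    simp [mul_assoc]
  have hne : H₁ ≠ ⊥ := fun e => hH (eq_bot_of_card_eq H (by rw [← hcard, e, card_bot]))
  obtain ⟨k, hk, hc⟩ := h H₁ hne (hcard.symm ▸ hπ) _ hxg
  refine ⟨k, hk, mem_centralizer_iff.2 fun a ha => ?_⟩
  have hmap : H = H₁.map (QuotientGroup.mk' R) := by
    rw [← map_comap_mk' H, ← hM, ← hsup, Subgroup.map_sup, QuotientGroup.map_mk'_self, bot_sup_eq]
  rw [hmap] at ha
  obtain ⟨b, hb, rfl⟩ := ha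
  rw [← hmk, ← map_pow, ← map_mul, ← map_mul, mem_centralizer_iff.1 hc b hb]

/-- An element whose order has no prime of `π` centralises every π-subgroup it normalises. -/
theorem AutPi.mem_centralizer (h : AutPi π G) {H : Subgroup G} (hH : H ≠ ⊥)
    (hπ : PiNum π (Nat.card H)) {g : G} (hg : g ∈ normalizer (H : Set G))
    (ho : PiPrime π (orderOf g)) : g ∈ centralizer (H : Set G) := by
  obtain ⟨k, hk, hc⟩ := h H hH hπ g hg
  obtain ⟨j, hj⟩ := exists_pow_eq_self_of_coprime (coprime_of_piNum ho hk).symm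
  exact hj ▸ pow_mem hc j

/-- Power `ℓ` prime outside `π`: `g ^ ℓ` centralising means `g` centralising. -/
theorem AutPi.mem_centralizer_of_pow (h : AutPi π G) {H : Subgroup G} (hH : H ≠ ⊥)
    (hπ : PiNum π (Nat.card H)) {g : G} (hg : g ∈ normalizer (H : Set G)) {ℓ : ℕ}
    (hℓ : PiPrime π ℓ) (hgℓ : g ^ ℓ ∈ centralizer (H : Set G)) : g ∈ centralizer (H : Set G) := by
  obtain ⟨k, hk, hc⟩ := h H hH hπ g hg
  rw [← zpow_natCast] at hc hgℓ
  have h1 := (coprime_of_piNum hℓ hk)
  have h2 : g = (g ^ (ℓ : ℤ)) ^ Nat.gcdA ℓ k * (g ^ (k : ℤ)) ^ Nat.gcdB ℓ k := by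
    rw [← zpow_mul, ← zpow_mul, ← zpow_add, ← Nat.gcd_eq_gcd_ab, h1.gcd_eq_one, Nat.cast_one, zpow_one]
  rw [h2]
  exact mul_mem (zpow_mem hgℓ _) (zpow_mem hc _)

/-- A real element of odd prime order in `π` is impossible. -/
theorem AutPi.false_of_real (hodd : ∀ p ∈ π, p ≠ 2) (h : AutPi π G) {x y : G}
    (hx : (orderOf x).Prime) (hxπ : orderOf x ∈ π) (hy : y * x * y⁻¹ = x⁻¹) : False := by
  have hcard : Nat.card ↥(zpowers x) = orderOf x := Nat.card_zpowers x
  have hne : zpowers x ≠ ⊥ := zpowers_ne_bot.2 fun e => hx.ne_one (by rw [e, orderOf_one])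
  have hyN : y ∈ normalizer (zpowers x : Set G) := by
    rw [mem_normalizer_iff_map_conj_eq, MonoidHom.map_zpowers]
    show zpowers (y * x * y⁻¹) = _
    rw [hy, zpowers_inv]
  have hsq : y ^ 2 ∈ centralizer (zpowers x : Set G) := by
    refine mem_centralizer_iff.2 fun a ha => ?_
    obtain ⟨i, rfl⟩ := mem_zpowers_iff.1 ha
    refine (Commute.zpow_right ?_ i).eq.symm
    show y ^ 2 * x = x * y ^ 2
    rw [← mul_inv_eq_iff_eq_mul, sq]
    calc y * y * x * (y * y)⁻¹ = y * (y * x * y⁻¹) * y⁻¹ := by group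
      _ = y * x⁻¹ * y⁻¹ := by rw [hy]
      _ = (y * x * y⁻¹)⁻¹ := by group
      _ = x := by rw [hy, inv_inv]
  have hc := h.mem_centralizer_of_pow hne (fun p hp hd => by
      rw [hcard] at hd
      rwa [(Nat.prime_dvd_prime_iff_eq hp hx).1 hd]) hyN (ℓ := 2) (fun p hp hd hπ => hodd p hπ
      ((Nat.prime_dvd_prime_iff_eq hp Nat.prime_two).1 hd)) hsq
  have h1 : y * x * y⁻¹ = x := by
    rw [mul_inv_eq_iff_eq_mul]
    exact (mem_centralizer_iff.1 hc x (mem_zpowers x)).symm
  rw [hy] at h1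
  have h2 : orderOf x ∣ 2 := orderOf_dvd_of_pow_eq_one (by rw [sq]; nth_rewrite 1 [← h1]; simp)
  exact hodd _ hxπ ((Nat.prime_dvd_prime_iff_eq hx Nat.prime_two).1 h2)

/-- The simple groups with the hypotheses are π'-groups. -/
def SimpleFact (π : Set ℕ) : Prop :=
  ∀ (T : Type u) [Group T] [Finite T], IsSimpleGroup T → ¬ IsMulCommutative T → SecTwo T →
    AutPi π T → PiPrime π (Nat.card T)

theorem closed_of_class (hsol : SolvEither.{u} π)
    (P : ∀ (G : Type u) [Group G], Prop)
    (hsub : ∀ (G : Type u) [Group G] [Finite G] (K : Subgroup G), P G → P ↥K)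
    (hquo : ∀ (G : Type u) [Group G] [Finite G] (R : Subgroup G) [R.Normal],
      PiPrime π (Nat.card R) ∨ PiNum π (Nat.card R) → P G → P (G ⧸ R))
    (hs : ∀ (T : Type u) [Group T] [Finite T], IsSimpleGroup T → ¬ IsMulCommutative T → P T → AutPi π T →
      (∀ M : Subgroup T, M ≠ ⊤ → Closed π ↥M) → PiPrime π (Nat.card T)) :
    ∀ (n : ℕ) (G : Type u) [Group G] [Finite G], Nat.card G ≤ n → P G → AutPi π G →
      Closed π G := by
  intro n
  induction n with
  | zero => intro G _ _ hn; exact absurd hn (Nat.not_le.2 Nat.card_pos)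
  | succ n ih =>
  intro G _ _ hn h2 hA
  by_cases htriv : Nat.card G = 1
  · exact ⟨⊥, inferInstance, fun p hp hd => absurd (by simpa using hd) hp.ne_one,
      fun p hp hd => absurd (by rwa [index_bot, htriv, Nat.dvd_one] at hd) hp.ne_one⟩
  have hquot : ∀ R : Subgroup G, R ≠ ⊥ → ∀ [R.Normal], Nat.card (G ⧸ R) ≤ n := fun R hR _ => by
    have h := card_eq_card_quotient_mul_card_subgroup R
    have h2 : 1 < Nat.card R := one_lt_card_iff_ne_bot R |>.2 hR
    have h3 : 0 < Nat.card (G ⧸ R) := Nat.card_pos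
    have h4 : Nat.card (G ⧸ R) * 2 ≤ Nat.card (G ⧸ R) * Nat.card R := Nat.mul_le_mul_left _ h2
    omega
  -- normal π'-subgroups
  by_cases hR : ∃ R : Subgroup G, R.Normal ∧ R ≠ ⊥ ∧ PiPrime π (Nat.card R)
  · obtain ⟨R, hRn, hR1, hRπ⟩ := hR
    haveI := hRn
    obtain ⟨K, hKn, hK1, hK2⟩ := ih (G ⧸ R) (hquot R hR1) (hquo G R (Or.inl hRπ) h2)
      (autPi_quotient_piPrime hsol hA R hRπ)
    refine ⟨K.comap (QuotientGroup.mk' R), hKn.comap _, fun p hp hd => ?_, ?_⟩
    · rw [card_comap_mk] at hd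
      rcases hp.dvd_mul.1 hd with h' | h'
      exacts [hRπ p hp h', hK1 p hp h']
    · rwa [index_comap_of_surjective K (QuotientGroup.mk'_surjective R)]
  push Not at hR
  by_cases hsimple : ∀ N : Subgroup G, N.Normal → N = ⊥ ∨ N = ⊤
  · haveI : Nontrivial G := (Finite.one_lt_card_iff_nontrivial).1 (by
      have := Nat.card_pos (α := G); omega)
    haveI : IsSimpleGroup G := ⟨hsimple⟩
    have all : PiPrime π (Nat.card G) → Closed π G := fun h => ⟨⊤, inferInstance,
      by rwa [card_top], fun p hp hd => absurd (by simpa using hd) hp.ne_one⟩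
    by_cases hc : IsMulCommutative G
    · letI : CommGroup G := { ‹Group G› with mul_comm := fun a b => mul_comm' a b }
      have hp : (Nat.card G).Prime := IsSimpleGroup.prime_card
      by_cases hπ : Nat.card G ∈ π
      · exact ⟨⊥, inferInstance, fun p hp hd => absurd (by simpa using hd) hp.ne_one,
          fun p hp' hd => by
            rw [index_bot] at hd
            rwa [(Nat.prime_dvd_prime_iff_eq hp' hp).1 hd]⟩
      · exact all fun p hp' hd => by rwa [(Nat.prime_dvd_prime_iff_eq hp' hp).1 hd]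
    · exact all (hs G inferInstance hc h2 hA fun M hM => ih ↥M (by
        have : Nat.card M < Nat.card G := lt_of_le_of_ne (Nat.le_of_dvd Nat.card_pos
          (card_subgroup_dvd_card M)) fun e => hM (eq_top_of_card_eq M e)
        omega) (hsub G M h2) (autPi_subgroup hA M))
  push Not at hsimple
  obtain ⟨N, hNn, hN1, hN2⟩ := hsimple
  haveI := hNn
  -- proper normal subgroups are π-groups
  have hlt : Nat.card N ≤ n := by
    have : Nat.card N < Nat.card G := lt_of_le_of_ne (Nat.le_of_dvd Nat.card_pos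
      (card_subgroup_dvd_card N)) fun e => hN2 (eq_top_of_card_eq N e)
    omega
  obtain ⟨K, hKn, hK1, hK2⟩ := ih ↥N hlt (hsub G N h2) (autPi_subgroup hA N)
  have hKbot : K = ⊥ := by
    by_contra hne
    refine hR (K.map N.subtype) ?_ (fun e => hne ((Subgroup.map_eq_bot_iff_of_injective _
      N.subtype_injective).1 e)) (by rwa [card_subtype])
    refine ⟨fun x hx g => ?_⟩
    obtain ⟨a, ha, rfl⟩ := hx
    set b : ↥N := ⟨g * a * g⁻¹, hNn.conj_mem _ a.2 g⟩
    refine ⟨b, ?_, rfl⟩
    have hob : orderOf b = orderOf a := by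
      rw [← Subgroup.orderOf_coe, ← Subgroup.orderOf_coe a]
      exact MulEquiv.orderOf_eq (MulAut.conj g) (a : G)
    have h1 : orderOf (QuotientGroup.mk' K b) = 1 := Nat.eq_one_of_dvd_coprimes
      (coprime_of_piNum (fun p hp hd => hK1 p hp
        (hd.trans ((dvd_of_eq hob).trans (orderOf_dvd_natCard K ha)))) hK2)
      (orderOf_map_dvd _ b) (K.index_eq_card ▸ orderOf_dvd_natCard _)
    exact (QuotientGroup.eq_one_iff b).1 (orderOf_eq_one_iff.1 h1)
  have hNπ : PiNum π (Nat.card N) := by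
    rwa [hKbot, index_bot] at hK2
  obtain ⟨K', hK'n, hK'1, hK'2⟩ := ih (G ⧸ N) (hquot N hN1) (hquo G N (Or.inr hNπ) h2)
    (autPi_quotient_pi hA N hNπ)
  by_cases hK' : K' = ⊤
  swap
  · -- `G` is a π-group
    set M := K'.comap (QuotientGroup.mk' N)
    have hMlt : Nat.card M ≤ n := by
      have hMtop : M ≠ ⊤ := fun e => hK' (by rw [← map_comap_mk' K', ← MonoidHom.range_eq_top.2
        (QuotientGroup.mk'_surjective N), MonoidHom.range_eq_map]; exact congrArg _ e)
      have : Nat.card M < Nat.card G := lt_of_le_of_ne (Nat.le_of_dvd Nat.card_pos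
        (card_subgroup_dvd_card M)) fun e => hMtop (eq_top_of_card_eq M e)
      omega
    refine ⟨⊥, inferInstance, fun p hp hd => absurd (by simpa using hd) hp.ne_one, ?_⟩
    rw [index_bot]
    intro p hp hd
    have hidx : M.index = K'.index := index_comap_of_surjective K' (QuotientGroup.mk'_surjective N)
    rw [← M.card_mul_index, hidx] at hd
    rcases hp.dvd_mul.1 hd with h' | h'
    swap
    · exact hK'2 p hp h'
    rw [card_comap_mk] at h'
    rcases hp.dvd_mul.1 h' with h'' | h''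
    · exact hNπ p hp h''
    -- `K'` is trivial
    exfalso
    obtain ⟨KM, hKMn, hKM1, hKM2⟩ := ih ↥M hMlt (hsub G M h2) (autPi_subgroup hA M)
    haveI := hKMn
    have hMn : M.Normal := hK'n.comap _
    by_cases hKM : KM = ⊥
    · rw [hKM, index_bot] at hKM2
      exact hK'1 p hp h'' (hKM2 p hp (by rw [card_comap_mk]; exact dvd_mul_of_dvd_right h'' _))
    · refine hR (KM.map M.subtype) ?_ (fun e => hKM ((Subgroup.map_eq_bot_iff_of_injective _
        M.subtype_injective).1 e)) (by rwa [card_subtype])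
      refine ⟨fun x hx g => ?_⟩
      obtain ⟨a, ha, rfl⟩ := hx
      set b : ↥M := ⟨g * a * g⁻¹, hMn.conj_mem _ a.2 g⟩
      refine ⟨b, ?_, rfl⟩
      have hob : orderOf b = orderOf a := by
        rw [← Subgroup.orderOf_coe, ← Subgroup.orderOf_coe a]
        exact MulEquiv.orderOf_eq (MulAut.conj g) (a : G)
      have h1 : orderOf (QuotientGroup.mk' KM b) = 1 := Nat.eq_one_of_dvd_coprimes
        (coprime_of_piNum (fun p hp hd => hKM1 p hp
          (hd.trans ((dvd_of_eq hob).trans (orderOf_dvd_natCard KM ha)))) hKM2)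
        (orderOf_map_dvd _ b) (KM.index_eq_card ▸ orderOf_dvd_natCard _)
      exact (QuotientGroup.eq_one_iff b).1 (orderOf_eq_one_iff.1 h1)
  -- a π'-complement centralises `N`
  exfalso
  have hidx : PiPrime π N.index := by
    rw [hK', card_top] at hK'1
    rwa [index_eq_card]
  obtain ⟨W, hW⟩ := exists_right_complement'_of_coprime (N := N)
    (coprime_of_piNum hidx hNπ).symm
  have hWc : Nat.card W = N.index := hW.symm.index_eq_card.symm
  have hcent : W ≤ centralizer (N : Set G) := fun w hw =>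
    hA.mem_centralizer hN1 hNπ (le_normalizer_of_normal (mem_top w)) fun p hp hd =>
      hidx p hp (hWc ▸ hd.trans (orderOf_dvd_natCard W hw))
  have hWn : W.Normal := by
    refine normalizer_eq_top_iff.1 (top_le_iff.1 ?_)
    rw [← hW.sup_eq_top]
    exact sup_le (le_centralizer_iff.1 hcent |>.trans (centralizer_le_normalizer _)) le_normalizer
  have hWbot : W = ⊥ := by
    by_contra hne
    exact hR W hWn hne (hWc.symm ▸ hidx)
  exact hN2 (by rw [← hW.sup_eq_top, hWbot, sup_bot_eq])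

theorem closed_of (hodd : ∀ p ∈ π, p ≠ 2) (hs : SimpleFact.{u} π) :
    ∀ (n : ℕ) (G : Type u) [Group G] [Finite G], Nat.card G ≤ n → SecTwo G → AutPi π G →
      Closed π G :=
  closed_of_class (solvEither_of_odd hodd) (fun G _ => SecTwo G)
    (fun _ _ _ K h => secTwo_subgroup h K) (fun _ _ _ R _ _ h => secTwo_quotient h R)
    (fun T _ _ h1 h2 h3 h4 _ => hs T h1 h2 h3 h4)

/-- The subgroup of the π'-elements. -/
theorem Closed.exists_subgroup (h : Closed π G) :
    ∃ K : Subgroup G, ∀ x : G, x ∈ K ↔ ∀ p : ℕ, p.Prime → p ∣ orderOf x → p ∉ π := by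
  obtain ⟨K, hKn, h1, h2⟩ := h
  haveI := hKn
  refine ⟨K, fun x => ⟨fun hx p hp hd => h1 p hp (hd.trans (orderOf_dvd_natCard K hx)), fun hx => ?_⟩⟩
  have : orderOf (QuotientGroup.mk' K x) = 1 := Nat.eq_one_of_dvd_coprimes (coprime_of_piNum hx h2)
    (orderOf_map_dvd _ x) (K.index_eq_card ▸ orderOf_dvd_natCard _)
  exact (QuotientGroup.eq_one_iff x).1 (orderOf_eq_one_iff.1 this)

/-- The statement's hypothesis gives `AutPi`. -/
theorem autPi_of_homogeneous
    (hhom : (∀ H : Subgroup G, H ≠ ⊥ → (∀ p : ℕ, p.Prime → p ∣ Nat.card ↥H → p ∈ π) →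
        ∀ p : ℕ, p.Prime → p ∣ (Subgroup.centralizer (H : Set G)).relIndex (Subgroup.normalizer (H : Set G)) → p ∈ π)) :
    AutPi π G := by
  intro H hH hπ g hg
  refine ⟨(centralizer (H : Set G)).relIndex (normalizer (H : Set G)), hhom H hH hπ, ?_⟩
  haveI : ((centralizer (H : Set G)).subgroupOf (normalizer (H : Set G))).Normal := by
    rw [← normalizerMonoidHom_ker]; infer_instance
  exact pow_index_mem ((centralizer (H : Set G)).subgroupOf (normalizer (H : Set G))) ⟨g, hg⟩

theorem secTwo_of_hyp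
    (h : ∀ S : Sylow 2 G, IsMulCommutative S ∨ ∃ n : ℕ, Nonempty ((S : Subgroup G) ≃* DihedralGroup n)) :
    SecTwo G := fun S => (h S).elim Or.inl fun ⟨n, ⟨e⟩⟩ =>
  Or.inr ⟨n, ⊤, e.symm.toMonoidHom.comp (⊤ : Subgroup (DihedralGroup n)).subtype, fun s =>
    ⟨⟨e s, mem_top _⟩, e.symm_apply_apply s⟩⟩

end Cfsg.Agent.PiClosed
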