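import Cfsg.Agent.Lib.PiClosed.Reduce
import Cfsg.Agent.Lib.Forms.KleinPSL
import Cfsg.Agent.Lib.Transfer.NormalPComplement
import Cfsg.Prelude.Def_Sporadic

/-!
# π-homogeneity in `PSL₂(q)`, `A₇` and `J₁`

In these groups no prime of `π` divides the order: semisimple elements of `PSL₂(q)` are inverted and the torus
acts on the unipotent group; in `A₇` and `J₁` the automisers of the Sylow subgroups of prime order are too large.
-/

set_option autoImplicit false
set_option linter.unusedSectionVars false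
set_option linter.style.haveILetI false

namespace Cfsg.Agent.PiClosed

open Subgroup
open scoped MatrixGroups

universe u

variable {π : Set ℕ}

/-- A prime of π whose Sylow subgroup has prime order has a prime of π dividing `r - 1` and the order. -/
theorem exists_prime_of_sylow {G : Type u} [Group G] [Finite G] [IsSimpleGroup G]
    (hA : AutPi π G) {r : ℕ} (hr : r.Prime) (hrπ : r ∈ π) (hd : r ∣ Nat.card G)
    (hd2 : ¬ r ^ 2 ∣ Nat.card G) (hne : Nat.card G ≠ r) :
    ∃ l : ℕ, l.Prime ∧ l ∈ π ∧ l ∣ r - 1 ∧ l ∣ Nat.card G := by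
  haveI : Fact r.Prime := ⟨hr⟩
  obtain ⟨P⟩ : Nonempty (Sylow r G) := inferInstance
  have hP : Nat.card ↥(P : Subgroup G) = r := by
    rw [P.card_eq_multiplicity]
    have h1 : 0 < (Nat.card G).factorization r := hr.factorization_pos_of_dvd Nat.card_pos.ne' hd
    have h2 : ¬ 2 ≤ (Nat.card G).factorization r := fun h =>
      hd2 ((pow_dvd_pow r h).trans (Nat.ordProj_dvd _ r))
    rw [show (Nat.card G).factorization r = 1 by omega, pow_one]
  obtain ⟨g, hgN, hgC⟩ : ∃ g ∈ normalizer ((P : Subgroup G) : Set G),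
      g ∉ centralizer ((P : Subgroup G) : Set G) := by
    by_contra h
    push Not at h
    obtain ⟨P', N, hN, hc⟩ :=
      Transfer.NormalPComplement.hasNormalPComplement_of_normalizer_le_centralizer P h
    have hP' : Nat.card ↥(P' : Subgroup G) = r :=
      (Nat.card_congr (P'.equiv P).toEquiv).trans hP
    have hmul := hc.card_mul
    rcases IsSimpleGroup.eq_bot_or_eq_top_of_normal N hN with e | e
    · rw [e, card_bot, one_mul, hP'] at hmul
      exact hne hmul.symm
    · rw [e, card_top, hP'] at hmul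
      have := hr.one_lt
      have := Nat.mul_lt_mul_of_pos_left this (Nat.card_pos (α := G))
      omega
  obtain ⟨k, hk, hkC⟩ := hA (P : Subgroup G) (fun e => by
      rw [e, card_bot] at hP; exact hr.ne_one hP.symm)
    (fun q hq hq' => by rw [hP, Nat.prime_dvd_prime_iff_eq hq hr] at hq'; rwa [hq']) g hgN
  set φ := normalizerMonoidHom (P : Subgroup G)
  set g' : ↥(normalizer ((P : Subgroup G) : Set G)) := ⟨g, hgN⟩
  have hker : ∀ y : ↥(normalizer ((P : Subgroup G) : Set G)),
      φ y = 1 ↔ (y : G) ∈ centralizer ((P : Subgroup G) : Set G) := fun y => by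
    rw [← MonoidHom.mem_ker, normalizerMonoidHom_ker, mem_subgroupOf]
  have hne1 : orderOf (φ g') ≠ 1 := fun e => hgC ((hker g').1 (orderOf_eq_one_iff.1 e))
  obtain ⟨l, hl, hld⟩ := Nat.exists_prime_and_dvd hne1
  refine ⟨l, hl, hk l hl (hld.trans (orderOf_dvd_of_pow_eq_one ?_)), ?_, ?_⟩
  · rw [← map_pow]; exact (hker _).2 hkC
  · haveI : IsCyclic ↥(P : Subgroup G) := isCyclic_of_prime_card hP
    refine hld.trans ((_root_.orderOf_dvd_natCard _).trans (dvd_of_eq ?_))
    rw [IsCyclic.card_mulAut, hP, Nat.totient_prime hr]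
  · refine hld.trans ((orderOf_map_dvd φ g').trans ?_)
    rw [← Subgroup.orderOf_coe]
    exact orderOf_dvd_natCard _

/-- No odd prime of π divides the order of `J₁`. -/
theorem piPrime_janko {T : Type u} [Group T] [Finite T] (hodd : ∀ p ∈ π, p ≠ 2) (hA : AutPi π T)
    (hJ : Cfsg.IsJ1 T) : PiPrime π (Nat.card T) := by
  haveI := hJ.1
  have hc := hJ.2
  have step : ∀ r : ℕ, r.Prime → r ∈ π → r ∣ 175560 → ¬ r ^ 2 ∣ 175560 →
      ∃ l : ℕ, l.Prime ∧ l ∈ π ∧ l ∣ r - 1 := fun r hr hrπ h1 h2 => by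
    obtain ⟨l, hl, hlπ, hld, -⟩ := exists_prime_of_sylow hA hr hrπ (hc.symm ▸ h1) (hc.symm ▸ h2)
      (by rw [hc]; rintro rfl; norm_num at hr)
    exact ⟨l, hl, hlπ, hld⟩
  have only_two : ∀ r l : ℕ, l.Prime → l ∈ π → l ∣ r - 1 → (r = 3 ∨ r = 5) → False := by
    rintro r l hl hlπ hld (rfl | rfl)
    · exact hodd l hlπ ((Nat.prime_dvd_prime_iff_eq hl Nat.prime_two).1 hld)
    · exact hodd l hlπ ((Nat.prime_dvd_prime_iff_eq hl Nat.prime_two).1
        (hl.dvd_of_dvd_pow (n := 2) hld))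
  have h3 : 3 ∉ π := fun h => by
    obtain ⟨l, hl, hlπ, hld⟩ := step 3 Nat.prime_three h (by norm_num) (by norm_num)
    exact only_two 3 l hl hlπ hld (Or.inl rfl)
  have h5 : 5 ∉ π := fun h => by
    obtain ⟨l, hl, hlπ, hld⟩ := step 5 Nat.prime_five h (by norm_num) (by norm_num)
    exact only_two 5 l hl hlπ hld (Or.inr rfl)
  intro r hr hd hrπ
  rw [hc, show (175560 : ℕ) = 2 ^ 3 * 3 * 5 * 7 * 11 * 19 by norm_num] at hd
  have hmem : r = 2 ∨ r = 3 ∨ r = 5 ∨ r = 7 ∨ r = 11 ∨ r = 19 := by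
    simp only [hr.dvd_mul] at hd
    have e : ∀ {q : ℕ}, q.Prime → r ∣ q → r = q := fun hq h => (Nat.prime_dvd_prime_iff_eq hr hq).1 h
    rcases hd with ((((h | h) | h) | h) | h) | h
    · exact Or.inl (e Nat.prime_two (hr.dvd_of_dvd_pow h))
    · exact Or.inr (Or.inl (e Nat.prime_three h))
    · exact Or.inr (Or.inr (Or.inl (e Nat.prime_five h)))
    · exact Or.inr (Or.inr (Or.inr (Or.inl (e (by norm_num) h))))
    · exact Or.inr (Or.inr (Or.inr (Or.inr (Or.inl (e (by norm_num) h)))))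
    · exact Or.inr (Or.inr (Or.inr (Or.inr (Or.inr (e (by norm_num) h)))))
  rcases hmem with rfl | rfl | rfl | rfl | rfl | rfl
  · exact hodd 2 hrπ rfl
  · exact h3 hrπ
  · exact h5 hrπ
  all_goals
    obtain ⟨l, hl, hlπ, hld⟩ := step _ hr hrπ (by norm_num) (by norm_num)
    have hle := Nat.le_of_dvd (by norm_num) hld
    have h2 := hodd l hlπ
    have h3' : l ≠ 3 := fun e => h3 (e ▸ hlπ)
    have h5' : l ≠ 5 := fun e => h5 (e ▸ hlπ)
    interval_cases l <;> first | omega | exact absurd hl (by norm_num)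

/-- No odd prime of π divides the order of `A₇`. -/
theorem piPrime_altSeven {T : Type u} [Group T] [Finite T] (hodd : ∀ p ∈ π, p ≠ 2) (hA : AutPi π T)
    (e : T ≃* ↥(alternatingGroup (Fin 7))) : PiPrime π (Nat.card T) := by
  haveI : IsSimpleGroup ↥(alternatingGroup (Fin 7)) := alternatingGroup.isSimpleGroup (by simp)
  haveI : IsSimpleGroup T := (MulEquiv.isSimpleGroup_congr e).2 inferInstance
  have hc : Nat.card T = 2520 := by
    rw [Nat.card_congr e.toEquiv, nat_card_alternatingGroup, Nat.card_eq_fintype_card, Fintype.card_fin]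
    decide
  -- an element of order three inverted by an involution
  have h3 : 3 ∉ π := by
    intro h
    obtain ⟨x, y, hx, hy⟩ : ∃ x y : ↥(alternatingGroup (Fin 7)), orderOf x = 3 ∧ y * x * y⁻¹ = x⁻¹ := by
      refine ⟨⟨Equiv.swap 0 1 * Equiv.swap 1 2, Equiv.Perm.mem_alternatingGroup.2 (by decide)⟩,
        ⟨Equiv.swap 1 2 * Equiv.swap 3 4, Equiv.Perm.mem_alternatingGroup.2 (by decide)⟩, ?_, by decide⟩
      exact orderOf_eq_prime (by decide) (by decide)
    have ho : orderOf (e.symm x) = 3 := by rw [MulEquiv.orderOf_eq]; exact hx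
    refine hA.false_of_real hodd (x := e.symm x) (y := e.symm y) (ho.symm ▸ Nat.prime_three)
      (ho.symm ▸ h) ?_
    rw [← map_inv, ← map_mul, ← map_mul, hy, map_inv]
  intro r hr hd hrπ
  rw [hc, show (2520 : ℕ) = 2 ^ 3 * 3 ^ 2 * 5 * 7 by norm_num] at hd
  simp only [hr.dvd_mul] at hd
  have eq' : ∀ {q : ℕ}, q.Prime → r ∣ q → r = q := fun hq h => (Nat.prime_dvd_prime_iff_eq hr hq).1 h
  have hmem : r = 2 ∨ r = 3 ∨ r = 5 ∨ r = 7 := by
    rcases hd with ((h | h) | h) | h
    · exact Or.inl (eq' Nat.prime_two (hr.dvd_of_dvd_pow h))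
    · exact Or.inr (Or.inl (eq' Nat.prime_three (hr.dvd_of_dvd_pow h)))
    · exact Or.inr (Or.inr (Or.inl (eq' Nat.prime_five h)))
    · exact Or.inr (Or.inr (Or.inr (eq' (by norm_num) h)))
  rcases hmem with rfl | rfl | h57
  · exact hodd 2 hrπ rfl
  · exact h3 hrπ
  obtain ⟨l, hl, hlπ, hld, -⟩ := exists_prime_of_sylow hA hr hrπ
    (by rcases h57 with rfl | rfl <;> rw [hc] <;> norm_num)
    (by rcases h57 with rfl | rfl <;> rw [hc] <;> norm_num) (by rw [hc]; omega)
  have h2 := hodd l hlπ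
  have h3' : l ≠ 3 := fun e => h3 (e ▸ hlπ)
  rcases h57 with rfl | rfl <;>
  · have hle := Nat.le_of_dvd (by norm_num) hld
    interval_cases l <;> first | omega | exact absurd hl (by norm_num)

section SLTwo

variable {F : Type*} [Field F] [Fintype F]

open Matrix

/-- A conic meets every value. -/
theorem exists_sq_sub_eq (h2 : (2 : F) ≠ 0) {k : F} (hk : k ≠ 0) : ∃ u v : F, u * u - k * (v * v) = -1 := by
  have hodd : Fintype.card F % 2 = 1 := by
    apply FiniteField.odd_card_of_char_ne_two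
    intro h
    haveI : CharP F 2 := h ▸ ringChar.charP F
    exact h2 CharTwo.two_eq_zero
  obtain ⟨u, v, huv⟩ := FiniteField.exists_root_sum_quadratic (R := F) (f := Polynomial.X ^ 2)
    (g := Polynomial.C (-k) * Polynomial.X ^ 2 + Polynomial.C 0 * Polynomial.X + Polynomial.C 1)
    (Polynomial.degree_X_pow 2) (Polynomial.degree_quadratic (neg_ne_zero.2 hk)) hodd
  refine ⟨u, v, ?_⟩
  simp at huv
  linear_combination huv

/-- An element of `SL₂` of trace other than `±2` is inverted. -/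
theorem exists_inverts (X : SL(2, F)) (htr : (X 0 0 + X 1 1) ^ 2 ≠ 4) :
    ∃ Y : SL(2, F), Y * X * Y⁻¹ = X⁻¹ := by
  suffices h : ∃ a b c : F, -(a * a) - b * c = 1 ∧ (X 0 0 - X 1 1) * a + X 0 1 * c + X 1 0 * b = 0 by
    obtain ⟨a, b, c, hdet, htr0⟩ := h
    have hd : det !![a, b; c, -a] = 1 := by
      rw [det_fin_two_of]; linear_combination hdet
    obtain ⟨Y, hY⟩ : ∃ Y : SL(2, F), (Y : Matrix (Fin 2) (Fin 2) F) = !![a, b; c, -a] := ⟨⟨_, hd⟩, rfl⟩
    refine ⟨Y, mul_inv_eq_iff_eq_mul.2 (Subtype.ext ?_)⟩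
    rw [Matrix.SpecialLinearGroup.coe_mul, Matrix.SpecialLinearGroup.coe_mul,
      Matrix.SpecialLinearGroup.coe_inv, adjugate_fin_two, hY]
    ext i j
    fin_cases i <;> fin_cases j <;> simp [Matrix.mul_apply, Fin.sum_univ_two]
    · linear_combination htr0
    · ring
    · ring
    · linear_combination htr0
  set d := X 0 0 - X 1 1 with hd
  set e := X 1 0
  set f := X 0 1
  have hdisc : d ^ 2 + 4 * (e * f) ≠ 0 := fun h => htr (by
    have hdet := X.2
    rw [det_fin_two] at hdet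
    linear_combination h + 4 * hdet)
  by_cases hf : f = 0
  · have hd0 : d ≠ 0 := fun h0 => hdisc (by rw [h0, hf]; ring)
    refine ⟨-e / d, 1, -1 - (e / d) * (e / d), ?_, ?_⟩
    · ring
    · rw [hf]; field_simp; ring
  · by_cases h2 : (2 : F) = 0
    · refine ⟨1, 0, -d / f, ?_, ?_⟩
      · linear_combination (-1 : F) * h2
      · field_simp; ring
    · have hk : (d ^ 2 + 4 * (e * f)) / (4 * (f * f)) ≠ 0 := by
        refine div_ne_zero hdisc (mul_ne_zero ?_ (mul_ne_zero hf hf))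
        rw [show (4 : F) = 2 * 2 by norm_num]
        exact mul_ne_zero h2 h2
      obtain ⟨u, v, huv⟩ := exists_sq_sub_eq h2 hk
      refine ⟨u + d * v / (2 * f), v, -(d * (u + d * v / (2 * f)) + e * v) / f, ?_, ?_⟩
      · have h4 : (4 : F) ≠ 0 := by
          rw [show (4 : F) = 2 * 2 by norm_num]
          exact mul_ne_zero h2 h2
        rw [show -((u + d * v / (2 * f)) * (u + d * v / (2 * f))) -
            v * (-(d * (u + d * v / (2 * f)) + e * v) / f) =
            -(u * u) + (d ^ 2 + 4 * (e * f)) / (4 * (f * f)) * (v * v) by field_simp; ring]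
        linear_combination -huv
      · field_simp; ring

/-- Only central elements of trace `±2` have order prime to `2p`. -/
theorem eq_one_or_neg_of_trace (X : SL(2, F)) {n : ℕ} (hn : (n : F) ≠ 0) (hXn : X ^ n = 1)
    (htr : (X 0 0 + X 1 1) ^ 2 = 4) : X = 1 ∨ X = -1 := by
  obtain ⟨s, hs, hs2⟩ : ∃ s : F, s * s = 1 ∧ X 0 0 + X 1 1 = 2 * s := by
    rcases sq_eq_sq_iff_eq_or_eq_neg.1 (htr.trans (by norm_num : (4 : F) = 2 ^ 2)) with h | h
    · exact ⟨1, by ring, by rw [h]; ring⟩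
    · exact ⟨-1, by ring, by rw [h]; ring⟩
  set M : Matrix (Fin 2) (Fin 2) F := (X : Matrix (Fin 2) (Fin 2) F) with hM
  set N : Matrix (Fin 2) (Fin 2) F := s • M - 1 with hN
  have hdet := X.2
  rw [det_fin_two] at hdet
  have hN2 : N * N = 0 := by
    ext i j
    fin_cases i <;> fin_cases j <;> simp [hN, hM, Matrix.mul_apply, Fin.sum_univ_two, Matrix.one_apply]
    · linear_combination (s * s * X 0 0 - 2 * s + 0) * 0 + (-(s * s)) * hdet + s * s * X 0 0 * hs2 +
        (2 * s * X 0 0 - 1) * hs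
    · linear_combination s * s * X 0 1 * hs2 + 2 * s * X 0 1 * hs
    · linear_combination s * s * X 1 0 * hs2 + 2 * s * X 1 0 * hs
    · linear_combination (-(s * s)) * hdet + s * s * X 1 1 * hs2 + (2 * s * X 1 1 - 1) * hs
  have hpow : ∀ m : ℕ, (s • M) ^ m = 1 + (m : F) • N := by
    intro m
    induction m with
    | zero => simp
    | succ m ih =>
      rw [pow_succ, ih, show s • M = 1 + N by rw [hN]; abel, add_mul, one_mul, smul_mul_assoc, mul_add,
        mul_one, hN2, add_zero, Nat.cast_succ, add_smul, one_smul]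
      abel
  have hMn : M ^ n = 1 := by
    rw [hM, ← Matrix.SpecialLinearGroup.coe_pow, hXn, Matrix.SpecialLinearGroup.coe_one]
  have h2n : (2 : ℕ) * n = n + n := two_mul n
  have hsn : (s • M) ^ (n + n) = 1 := by
    rw [smul_pow, pow_add M, hMn, mul_one, ← two_mul, pow_mul, pow_two, hs, one_pow, one_smul]
  rw [hpow, add_eq_left, Nat.cast_add] at hsn
  by_cases h2 : (2 : F) = 0
  · -- characteristic two: use the power itself
    have hs1 : s = 1 := by
      have h : (s - 1) * (s - 1) = 0 := by linear_combination hs - s * h2 + h2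
      exact sub_eq_zero.1 (mul_self_eq_zero.1 h)
    have h3 := hpow n
    rw [hs1, one_smul, hMn] at h3
    have hN0 : N = 0 := (smul_eq_zero.1 (add_eq_left.1 h3.symm)).resolve_left hn
    left
    refine Subtype.ext ?_
    rw [hN, hs1, one_smul, sub_eq_zero] at hN0
    rw [← hM, hN0, Matrix.SpecialLinearGroup.coe_one]
  · have hN0 : N = 0 := (smul_eq_zero.1 hsn).resolve_left
      (by rw [← two_mul]; exact mul_ne_zero h2 hn)
    rw [hN, sub_eq_zero] at hN0
    rcases mul_self_eq_one_iff.1 hs with h | h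
    · left
      refine Subtype.ext ?_
      rw [h, one_smul] at hN0
      rw [← hM, hN0, Matrix.SpecialLinearGroup.coe_one]
    · right
      refine Subtype.ext ?_
      rw [h, neg_smul, one_smul] at hN0
      rw [← hM, Matrix.SpecialLinearGroup.coe_neg, Matrix.SpecialLinearGroup.coe_one, ← hN0, neg_neg]

end SLTwo

open Cfsg.Agent.Forms

/-- An element of prime order, odd and not the characteristic, of `PSL₂` is real. -/
theorem real_semisimple {F : Type*} [Field F] [Fintype F]
    (x : Matrix.ProjectiveSpecialLinearGroup (Fin 2) F) (hx : (orderOf x).Prime) (h2 : orderOf x ≠ 2)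
    (hp : ((orderOf x : ℕ) : F) ≠ 0) :
    ∃ y : Matrix.ProjectiveSpecialLinearGroup (Fin 2) F, y * x * y⁻¹ = x⁻¹ := by
  obtain ⟨X, rfl⟩ := KleinPSL.pi_surjective x
  set r := orderOf (KleinPSL.pi F X) with hr
  suffices htr : (X 0 0 + X 1 1) ^ 2 ≠ 4 by
    obtain ⟨Y, hY⟩ := exists_inverts X htr
    exact ⟨KleinPSL.pi F Y, by rw [← map_inv, ← map_mul, ← map_mul, hY, map_inv]⟩
  intro htr
  have hne : X ≠ 1 ∧ X ≠ -1 := not_or.1 fun h => hx.ne_one
    (orderOf_eq_one_iff.2 (KleinPSL.pi_eq_one.2 h))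
  rcases KleinPSL.pi_eq_one.1 (by rw [map_pow, pow_orderOf_eq_one] : KleinPSL.pi F (X ^ r) = 1) with h | h
  · exact (eq_one_or_neg_of_trace X hp h htr).elim hne.1 hne.2
  · by_cases hF : (2 : F) = 0
    · have hneg : (-1 : SL(2, F)) = 1 := by
        refine Subtype.ext ?_
        rw [Matrix.SpecialLinearGroup.coe_neg, Matrix.SpecialLinearGroup.coe_one]
        ext i j
        have : ∀ a : F, -a = a := fun a => by linear_combination (-a) * hF
        simp [this]
      exact (eq_one_or_neg_of_trace X hp (h.trans hneg) htr).elim hne.1 hne.2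
    · refine (eq_one_or_neg_of_trace X (n := r * 2) ?_ ?_ htr).elim hne.1 hne.2
      · push_cast; exact mul_ne_zero hp hF
      · rw [pow_mul, h, neg_one_sq]

/-- The image of the unipotent group. -/
def unip (F : Type*) [Field F] : Subgroup (Matrix.ProjectiveSpecialLinearGroup (Fin 2) F) :=
  ({ carrier := {X : SL(2, F) | X 0 0 = 1 ∧ X 1 0 = 0 ∧ X 1 1 = 1}
     one_mem' := by simp
     mul_mem' := fun {A B} hA hB => by
       simp only [Set.mem_ofPred_eq, Matrix.SpecialLinearGroup.coe_mul] at hA hB ⊢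
       simp [Matrix.mul_apply, Fin.sum_univ_two, hA.1, hA.2.1, hA.2.2, hB.1, hB.2.1, hB.2.2]
     inv_mem' := fun {A} hA => by
       simp only [Set.mem_ofPred_eq, Matrix.SpecialLinearGroup.coe_inv] at hA ⊢
       simp [Matrix.adjugate_fin_two, hA.1, hA.2.1, hA.2.2] } : Subgroup SL(2, F)).map (KleinPSL.pi F)

theorem mem_unip {F : Type*} [Field F] {x : Matrix.ProjectiveSpecialLinearGroup (Fin 2) F} :
    x ∈ unip F ↔ ∃ X : SL(2, F), (X 0 0 = 1 ∧ X 1 0 = 0 ∧ X 1 1 = 1) ∧ KleinPSL.pi F X = x :=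
  Iff.rfl

/-- No odd prime of π divides the order of `PSL₂(q)`, `q ≥ 4`. -/
theorem piPrime_pslTwo {T : Type u} [Group T] [Finite T] (hodd : ∀ p ∈ π, p ≠ 2) (hA : AutPi π T)
    {F : Type*} [Field F] [Fintype F] (h4 : 4 ≤ Fintype.card F)
    (e : T ≃* Matrix.ProjectiveSpecialLinearGroup (Fin 2) F) : PiPrime π (Nat.card T) := by
  obtain ⟨p, hp⟩ := CharP.exists F
  obtain ⟨f, hpp, hf⟩ := FiniteField.card F p
  haveI : Fact p.Prime := ⟨hpp⟩
  -- primes other than the characteristic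
  have hss : ∀ l : ℕ, l.Prime → l ∣ Nat.card T → l ∈ π → l = p := by
    intro l hl hd hlπ
    by_contra hlp
    haveI : Fact l.Prime := ⟨hl⟩
    obtain ⟨t, ht⟩ := exists_prime_orderOf_dvd_card' (G := T) l hd
    have hte : orderOf (e t) = l := by rw [MulEquiv.orderOf_eq, ht]
    obtain ⟨y, hy⟩ := real_semisimple (e t) (hte.symm ▸ hl) (hte.symm ▸ hodd l hlπ) (by
      rw [hte, Ne, CharP.cast_eq_zero_iff F p]
      exact fun h => hlp ((Nat.prime_dvd_prime_iff_eq hpp hl).1 h).symm)
    refine hA.false_of_real hodd (x := t) (y := e.symm y) (ht.symm ▸ hl) (ht.symm ▸ hlπ) ?_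
    apply e.injective
    rw [map_mul, map_mul, map_inv, map_inv, e.apply_symm_apply, hy]
  intro r hr hd hrπ
  obtain rfl := hss r hr hd hrπ
  -- the characteristic
  set U : Subgroup T := (unip F).comap e.toMonoidHom with hU
  have hUp : IsPGroup r ↥U := by
    rintro ⟨t, ht⟩
    refine ⟨1, Subtype.ext (e.injective ?_)⟩
    obtain ⟨X, ⟨h00, h10, h11⟩, hX⟩ := mem_unip.1 (show e t ∈ unip F from ht)
    have key : ∀ k : ℕ, (X ^ k) 0 0 = 1 ∧ (X ^ k) 1 0 = 0 ∧ (X ^ k) 1 1 = 1 ∧ (X ^ k) 0 1 = k * X 0 1 := by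
      intro k
      induction k with
      | zero => simp
      | succ k ih =>
        obtain ⟨a, b, c, d⟩ := ih
        rw [pow_succ, Matrix.SpecialLinearGroup.coe_mul]
        simp only [Matrix.mul_apply, Fin.sum_univ_two, a, b, c, d, h00, h10, h11, Nat.cast_succ]
        refine ⟨by ring, by ring, by ring, by ring⟩
    rw [Subgroup.coe_pow, map_pow, ← hX, ← map_pow, pow_one, Subgroup.coe_one, map_one]
    refine KleinPSL.pi_eq_one.2 (Or.inl (Subtype.ext ?_))
    obtain ⟨a, b, c, d⟩ := key r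
    ext i j
    fin_cases i <;> fin_cases j
    · simpa using a
    · simpa [CharP.cast_eq_zero F r] using d
    · simpa using b
    · simpa using c
  obtain ⟨s, hs⟩ : ∃ s : Fˣ, s ^ 2 ≠ 1 := by
    by_contra h
    push Not at h
    obtain ⟨g, hg⟩ := IsCyclic.exists_generator (α := Fˣ)
    have h1 : Nat.card Fˣ ∣ 2 := orderOf_eq_card_of_forall_mem_zpowers hg ▸ orderOf_dvd_of_pow_eq_one (h g)
    have := Nat.le_of_dvd (by norm_num) h1
    rw [Nat.card_units, Nat.card_eq_fintype_card] at this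
    omega
  have hdet : ∀ a b : F, a ≠ 0 → Matrix.det !![a, b; 0, a⁻¹] = 1 := fun a b ha => by
    rw [Matrix.det_fin_two_of]; field_simp; ring
  obtain ⟨D, hD⟩ : ∃ D : SL(2, F), (D : Matrix (Fin 2) (Fin 2) F) = !![(s : F), 0; 0, (s : F)⁻¹] :=
    ⟨⟨_, hdet _ _ (Units.ne_zero s)⟩, rfl⟩
  obtain ⟨one, hone⟩ : ∃ one : SL(2, F), (one : Matrix (Fin 2) (Fin 2) F) = !![1, 1; 0, (1 : F)⁻¹] :=
    ⟨⟨_, hdet _ _ one_ne_zero⟩, rfl⟩
  set u₁ : T := e.symm (KleinPSL.pi F one) with hu₁
  have hu₁U : u₁ ∈ U := by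
    show e u₁ ∈ unip F
    rw [hu₁, e.apply_symm_apply]
    exact mem_unip.2 ⟨one, by simp [hone], rfl⟩
  have hu₁1 : u₁ ≠ 1 := fun h => by
    have h1 := congrArg e h
    rw [hu₁, e.apply_symm_apply, map_one] at h1
    rcases KleinPSL.pi_eq_one.1 h1 with h2 | h2 <;>
      · have h3 := congrArg (fun A : SL(2, F) => A 0 1) h2
        simp [hone] at h3
  set g : T := e.symm (KleinPSL.pi F D) with hg
  have hgN : g ∈ normalizer (U : Set T) := by
    have key : ∀ a : F, a ≠ 0 → ∀ (A : SL(2, F)), (A : Matrix (Fin 2) (Fin 2) F) = !![a, 0; 0, a⁻¹] →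
        ∀ w ∈ U, e.symm (KleinPSL.pi F A) * w * (e.symm (KleinPSL.pi F A))⁻¹ ∈ U := by
      intro a ha A hA' w hw
      obtain ⟨X, ⟨h00, h10, h11⟩, hX⟩ := mem_unip.1 (show e w ∈ unip F from hw)
      show e _ ∈ unip F
      rw [map_mul, map_mul, map_inv, e.apply_symm_apply, ← hX, ← map_inv, ← map_mul, ← map_mul]
      refine mem_unip.2 ⟨_, ⟨?_, ?_, ?_⟩, rfl⟩ <;>
      · simp only [Matrix.SpecialLinearGroup.coe_mul, Matrix.SpecialLinearGroup.coe_inv, hA',
          Matrix.adjugate_fin_two, Matrix.mul_apply, Fin.sum_univ_two]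
        simp [h00, h10, h11, ha]
    refine mem_normalizer_iff.2 fun w => ⟨key _ (Units.ne_zero s) D hD w, fun h => ?_⟩
    have h1 := key _ (inv_ne_zero (Units.ne_zero s)) D⁻¹ (by
      simp [hD, Matrix.SpecialLinearGroup.coe_inv, Matrix.adjugate_fin_two]) _ h
    rwa [map_inv, map_inv, ← hg, inv_inv, show g⁻¹ * (g * w * g⁻¹) * g = w by group] at h1
  have hgπ : PiPrime π (orderOf g) := by
    intro l hl hld hlπ
    obtain rfl := hss l hl (hld.trans (orderOf_dvd_natCard g)) hlπ
    have h1 : orderOf g ∣ Fintype.card F - 1 := by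
      refine orderOf_dvd_of_pow_eq_one (e.injective ?_)
      rw [map_pow, hg, e.apply_symm_apply, ← map_pow, map_one]
      refine KleinPSL.pi_eq_one.2 (Or.inl (Subtype.ext ?_))
      rw [Matrix.SpecialLinearGroup.coe_pow, Matrix.SpecialLinearGroup.coe_one]
      rw [hD]
      rw [show (!![(s : F), 0; 0, (s : F)⁻¹] : Matrix (Fin 2) (Fin 2) F) = Matrix.diagonal ![(s : F), (s : F)⁻¹] by
        ext i j; fin_cases i <;> fin_cases j <;> simp, Matrix.diagonal_pow, ← Matrix.diagonal_one]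
      congr 1
      ext i
      fin_cases i <;> simp [FiniteField.pow_card_sub_one_eq_one, Units.ne_zero s]
    have h2 := hld.trans h1
    rw [hf] at h2 h4
    have h3 : l ∣ l ^ (f : ℕ) := dvd_pow_self l f.ne_zero
    have h5 : l ∣ 1 := (Nat.dvd_sub h3 h2).trans (dvd_of_eq (by omega))
    exact hl.not_dvd_one h5
  have hne : U ≠ ⊥ := fun h => hu₁1 (mem_bot.1 (h ▸ hu₁U))
  have hcard : PiNum π (Nat.card U) := by
    intro l hl hld
    obtain ⟨k, hk⟩ := IsPGroup.iff_card.1 hUp
    rw [hk] at hld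
    rwa [(Nat.prime_dvd_prime_iff_eq hl hr).1 (hl.dvd_of_dvd_pow hld)]
  have hcom := mem_centralizer_iff.1 (hA.mem_centralizer hne hcard hgN hgπ) u₁ hu₁U
  apply hs
  refine Units.ext ?_
  have h1 := congrArg e hcom
  rw [map_mul, map_mul, hg, hu₁, e.apply_symm_apply, e.apply_symm_apply, ← map_mul, ← map_mul] at h1
  rcases KleinPSL.pi_eq_iff.1 h1 with h | h
  · have h3 := congrArg (fun A : SL(2, F) => A 0 1) h
    simp [hD, hone, Matrix.SpecialLinearGroup.coe_mul, Matrix.mul_apply, Fin.sum_univ_two] at h3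
    rw [Units.val_pow_eq_pow_val, Units.val_one, pow_two]
    field_simp at h3
    linear_combination -h3
  · have h3 := congrArg (fun A : SL(2, F) => A 0 0) h
    simp [hD, hone, Matrix.SpecialLinearGroup.coe_mul, Matrix.mul_apply, Fin.sum_univ_two] at h3
    have h2 : (2 : F) = 0 := by
      have := Units.ne_zero s
      have h4 : (2 : F) * s = 0 := by linear_combination h3
      exact (mul_eq_zero.1 h4).resolve_right this
    exact absurd ((CharP.cast_eq_zero_iff F r 2).1 (by exact_mod_cast h2)) (fun h' =>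
      hodd r hrπ ((Nat.prime_dvd_prime_iff_eq hr Nat.prime_two).1 h'))

end Cfsg.Agent.PiClosed
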