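import Cfsg.Agent.Lib.PiClosed.Reduce
import Cfsg.Agent.Lib.SETwoClosed.Basic
import Cfsg.Agent.Lib.SEAbelian.Slice

/-!
# Groups in which all π-subgroups are 2-closed, `2 ∈ π`

The class is closed under subgroups and the quotients of the reduction, and a group of the class
whose π'-elements form a subgroup is solvable and 2-closed modulo its odd core. A real element
has no odd prime of `π` in its order.
-/

set_option autoImplicit false
set_option linter.unusedSectionVars false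
set_option linter.style.haveILetI false

namespace Cfsg.Agent.PiClosed

open Subgroup
open Cfsg.Agent.SETwoClosed (TwoEl)

universe u v

variable {π : Set ℕ} {G : Type u} [Group G] [Finite G]

/-- In every π-subgroup the 2-elements are closed under products. -/
def TwoCl (π : Set ℕ) (G : Type u) [Group G] : Prop :=
  ∀ H : Subgroup G, PiNum π (Nat.card H) → ∀ x ∈ H, ∀ y ∈ H, TwoEl x → TwoEl y → TwoEl (x * y)

/-- A group whose 2-elements are closed under products is solvable. -/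
theorem isSolvable_of_twoEl (h : ∀ x y : G, TwoEl x → TwoEl y → TwoEl (x * y)) : Group.IsSolvable G := by
  haveI : Fact (Nat.Prime 2) := ⟨Nat.prime_two⟩
  obtain ⟨S⟩ := (inferInstance : Nonempty (Sylow 2 G))
  let P : Subgroup G :=
    { carrier := {x | TwoEl x}
      one_mem' := ⟨0, one_pow _⟩
      mul_mem' := fun {a b} ha hb => h a b ha hb
      inv_mem' := fun {a} ⟨k, hk⟩ => ⟨k, by rw [inv_pow, hk, inv_one]⟩ }
  have hP : IsPGroup 2 ↥P := fun x => by
    obtain ⟨k, hk⟩ := x.2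
    exact ⟨k, Subtype.ext (by simpa using hk)⟩
  have hSP : (S : Subgroup G) ≤ P := fun x hx => by
    obtain ⟨k, hk⟩ := S.2 ⟨x, hx⟩
    exact ⟨k, congrArg Subtype.val hk⟩
  have heq : P = S := S.3 hP hSP
  haveI : (S : Subgroup G).Normal := heq ▸ ⟨fun x hx g => by
    obtain ⟨k, hk⟩ := hx
    exact ⟨k, by rw [conj_pow, hk, mul_one, mul_inv_cancel]⟩⟩
  haveI : Group.IsSolvable ↥(S : Subgroup G) := Coprime.isSolvable_of_isPGroup S.2
  haveI : Group.IsSolvable (G ⧸ (S : Subgroup G)) := S0205.result (by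
    rw [Nat.odd_iff, ← Nat.two_dvd_ne_zero, ← index_eq_card]
    exact S.not_dvd_index)
  exact Group.isSolvable_of_ker_le_range (S : Subgroup G).subtype (QuotientGroup.mk' (S : Subgroup G))
    (by rw [QuotientGroup.ker_mk', range_subtype])

/-- Lifting a 2-element modulo a normal subgroup. -/
theorem exists_twoEl_lift {R : Subgroup G} [R.Normal] {x : G} (hx : TwoEl (QuotientGroup.mk' R x)) :
    ∃ y ∈ zpowers x, TwoEl y ∧ QuotientGroup.mk' R y = QuotientGroup.mk' R x := by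
  obtain ⟨k, hk⟩ := hx
  obtain ⟨y, hy, hy2, hyx⟩ := SEAbelian.exists_twoEl (N := R) (x := x) ⟨k, by
    rw [← QuotientGroup.eq_one_iff, QuotientGroup.mk_pow]; exact hk⟩
  exact ⟨y, hy, hy2, QuotientGroup.eq.2 hyx⟩

theorem TwoEl.map {K : Type v} [Group K] (f : G →* K) {x : G} (hx : TwoEl x) : TwoEl (f x) := by
  obtain ⟨k, hk⟩ := hx
  exact ⟨k, by rw [← map_pow, hk, map_one]⟩

theorem twoCl_subgroup (h : TwoCl π G) (K : Subgroup G) : TwoCl π ↥K := by
  intro H hH x hx y hy ⟨i, hi⟩ ⟨j, hj⟩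
  obtain ⟨k, hk⟩ := h (H.map K.subtype) (by rwa [card_subtype]) x ⟨x, hx, rfl⟩ y ⟨y, hy, rfl⟩
    ⟨i, congrArg Subtype.val hi⟩ ⟨j, congrArg Subtype.val hj⟩
  exact ⟨k, Subtype.ext (by simpa using hk)⟩

theorem twoCl_quotient (h : TwoCl π G)
    (R : Subgroup G) [R.Normal] (hR : PiPrime π (Nat.card R) ∨ PiNum π (Nat.card R)) :
    TwoCl π (G ⧸ R) := by
  intro H hH x hx y hy hx2 hy2
  set q := QuotientGroup.mk' R
  obtain ⟨H₁, hH₁, hmap⟩ : ∃ H₁ : Subgroup G, PiNum π (Nat.card H₁) ∧ H = H₁.map q := by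
    rcases hR with hR | hR
    · set M := H.comap q with hM
      have hRM : R ≤ M := card_comap_mk.le_comap_mk' R H
      have hcop : (Nat.card R).Coprime (Nat.card H) := coprime_of_piNum hR hH
      have hMR : Nat.card ↥(R.subgroupOf M) = Nat.card R :=
        Nat.card_congr (subgroupOfEquivOfLe hRM).toEquiv
      have hidx : (R.subgroupOf M).index = Nat.card H := by
        have := (R.subgroupOf M).card_mul_index
        rw [hMR, card_comap_mk] at this
        exact Nat.eq_of_mul_eq_mul_left Nat.card_pos this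
      obtain ⟨K, hK⟩ := exists_right_complement'_of_coprime (N := R.subgroupOf M) (by rwa [hMR, hidx])
      refine ⟨K.map M.subtype, by rw [card_subtype, ← hK.symm.index_eq_card, hidx]; exact hH, ?_⟩
      have hsup := congrArg (Subgroup.map M.subtype) hK.sup_eq_top
      rw [Subgroup.map_sup, subgroupOf_map_subtype, inf_eq_left.2 hRM, ← MonoidHom.range_eq_map,
        M.range_subtype] at hsup
      rw [← map_comap_mk' H, ← hM]
      conv_lhs => rw [← hsup]
      rw [Subgroup.map_sup, QuotientGroup.map_mk'_self, bot_sup_eq]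
    · refine ⟨H.comap q, fun p hp hd => ?_, (map_comap_mk' H).symm⟩
      rw [card_comap_mk] at hd
      rcases hp.dvd_mul.1 hd with h' | h'
      exacts [hR p hp h', hH p hp h']
  rw [hmap] at hx hy
  obtain ⟨a, ha, rfl⟩ := hx
  obtain ⟨b, hb, rfl⟩ := hy
  obtain ⟨a', ha', ha2, hae⟩ := exists_twoEl_lift hx2
  obtain ⟨b', hb', hb2, hbe⟩ := exists_twoEl_lift hy2
  rw [← hae, ← hbe, ← map_mul]
  exact TwoEl.map q (h H₁ hH₁ a' (zpowers_le.2 ha ha') b' (zpowers_le.2 hb hb') ha2 hb2)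

/-- What is known of a proper subgroup in the minimal situation. -/
theorem Closed.structure_of (h2π : 2 ∈ π) (hcl : TwoCl π G) (h : Closed π G) :
    Group.IsSolvable G ∧ (∀ N : Subgroup G, [N.Normal] → Cfsg.oddCore G ≤ N → ∀ x y : G,
      TwoEl (QuotientGroup.mk' N x) → TwoEl (QuotientGroup.mk' N y) →
        TwoEl (QuotientGroup.mk' N (x * y))) ∧
      (Cfsg.oddCore G = ⊥ → PiNum π (Nat.card G)) := by
  obtain ⟨K, hKn, hK1, hK2⟩ := h
  haveI := hKn
  have hKodd : Odd (Nat.card K) := Nat.not_even_iff_odd.1 fun he =>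
    hK1 2 Nat.prime_two (even_iff_two_dvd.1 he) h2π
  have hcl' := twoCl_quotient hcl K (Or.inl hK1)
  have hq : PiNum π (Nat.card ↥(⊤ : Subgroup (G ⧸ K))) := by
    rwa [card_top, ← index_eq_card]
  have hc : ∀ x y : G ⧸ K, TwoEl x → TwoEl y → TwoEl (x * y) := fun x y =>
    hcl' ⊤ hq x (mem_top x) y (mem_top y)
  have hKO : K ≤ Cfsg.oddCore G := Agent.Cores.le_oddCore hKodd
  refine ⟨?_, fun N _ hN x y hx hy => ?_, fun hO => ?_⟩
  · haveI : Group.IsSolvable ↥K := S0205.result hKodd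
    haveI : Group.IsSolvable (G ⧸ K) := isSolvable_of_twoEl hc
    exact Group.isSolvable_of_ker_le_range K.subtype (QuotientGroup.mk' K)
      (by rw [QuotientGroup.ker_mk', range_subtype])
  · obtain ⟨a, -, ha, hax⟩ := exists_twoEl_lift hx
    obtain ⟨b, -, hb, hby⟩ := exists_twoEl_lift hy
    obtain ⟨k, hk⟩ := hc _ _ (TwoEl.map (QuotientGroup.mk' K) ha) (TwoEl.map (QuotientGroup.mk' K) hb)
    refine ⟨k, ?_⟩
    rw [map_mul, ← hax, ← hby, ← map_mul, ← map_pow, QuotientGroup.mk'_apply,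
      QuotientGroup.eq_one_iff]
    rw [← map_mul, ← map_pow, QuotientGroup.mk'_apply, QuotientGroup.eq_one_iff] at hk
    exact hN (hKO hk)
  · rw [hO, le_bot_iff] at hKO
    rwa [hKO, index_bot] at hK2

/-- An inverted element has no odd prime of `π` in its order. -/
theorem AutPi.no_inverted (h2π : 2 ∈ π) (hcl : TwoCl π G) {c y : G} (hy : y * c * y⁻¹ = c⁻¹)
    {p : ℕ} (hp : p.Prime) (hπ : p ∈ π) (hp2 : p ≠ 2) : ¬ p ∣ orderOf c := by
  intro hd
  set x := c ^ (orderOf c / p)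
  have hx : orderOf x = p := orderOf_pow_orderOf_div (orderOf_pos c).ne' hd
  have hyx : y * x * y⁻¹ = x⁻¹ := by rw [← conj_pow, hy, inv_pow]
  obtain ⟨e, m, hm, hym⟩ := Nat.exists_eq_two_pow_mul_odd (orderOf_pos y).ne'
  set w := y ^ m
  have hw : TwoEl w := ⟨e, by rw [← pow_mul, mul_comm, ← hym, pow_orderOf_eq_one]⟩
  have hsq : y ^ 2 * x * (y ^ 2)⁻¹ = x := by
    calc y ^ 2 * x * (y ^ 2)⁻¹ = y * (y * x * y⁻¹) * y⁻¹ := by rw [pow_two]; group
      _ = y * x⁻¹ * y⁻¹ := by rw [hyx]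
      _ = (y * x * y⁻¹)⁻¹ := by group
      _ = x := by rw [hyx, inv_inv]
  have hwx : w * x * w⁻¹ = x⁻¹ := by
    obtain ⟨d, hd⟩ := hm
    have hcd : Commute ((y ^ 2) ^ d) x := (show Commute (y ^ 2) x from mul_inv_eq_iff_eq_mul.1 hsq).pow_left d
    calc w * x * w⁻¹ = y * ((y ^ 2) ^ d * x * ((y ^ 2) ^ d)⁻¹) * y⁻¹ := by
          rw [show w = y * (y ^ 2) ^ d by simp only [w]; rw [hd, pow_succ', ← pow_mul]]; group
      _ = x⁻¹ := by rw [hcd.eq, mul_inv_cancel_right, hyx]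
  have hn : zpowers w ≤ normalizer (zpowers x : Set G) := by
    refine zpowers_le.2 ?_
    rw [mem_normalizer_iff_map_conj_eq, MonoidHom.map_zpowers]
    show zpowers (w * x * w⁻¹) = _
    rw [hwx, zpowers_inv]
  obtain ⟨k, hk⟩ := hw
  obtain ⟨f, -, hf⟩ := (Nat.dvd_prime_pow Nat.prime_two).1 (orderOf_dvd_of_pow_eq_one hk)
  have hcop : (Nat.card ↥(zpowers x)).Coprime (Nat.card ↥(zpowers w)) := by
    rw [Nat.card_zpowers, Nat.card_zpowers, hx, hf]
    exact ((Nat.coprime_primes hp Nat.prime_two).2 hp2).pow_right f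
  have hH : PiNum π (Nat.card ↥(zpowers x ⊔ zpowers w : Subgroup G)) := by
    intro r hr hrd
    rw [Coprime.card_sup_of_coprime hn hcop, Nat.card_zpowers, Nat.card_zpowers, hx, hf] at hrd
    rcases hr.dvd_mul.1 hrd with h | h
    · rwa [(Nat.prime_dvd_prime_iff_eq hr hp).1 h]
    · rwa [(Nat.prime_dvd_prime_iff_eq hr Nat.prime_two).1 (hr.dvd_of_dvd_pow h)]
  have hxH : x ∈ (zpowers x ⊔ zpowers w : Subgroup G) := mem_sup_left (mem_zpowers x)
  have hwH : w ∈ (zpowers x ⊔ zpowers w : Subgroup G) := mem_sup_right (mem_zpowers w)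
  obtain ⟨j, hj⟩ := hcl _ hH w⁻¹ (inv_mem hwH) (x * w * x⁻¹) (mul_mem (mul_mem hxH hwH) (inv_mem hxH))
    ⟨k, by rw [inv_pow, hk, inv_one]⟩ ⟨k, by rw [conj_pow, hk, mul_one, mul_inv_cancel]⟩
  have hwi : w⁻¹ * x * w = x⁻¹ := by
    calc w⁻¹ * x * w = w⁻¹ * (x⁻¹)⁻¹ * w := by rw [inv_inv]
      _ = w⁻¹ * (w * x * w⁻¹)⁻¹ * w := by rw [hwx]
      _ = x⁻¹ := by group
  have hxx : w⁻¹ * (x * w * x⁻¹) = (x⁻¹) ^ 2 := by
    rw [show w⁻¹ * (x * w * x⁻¹) = (w⁻¹ * x * w) * x⁻¹ by group, hwi, pow_two]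
  rw [hxx, ← pow_mul, inv_pow, inv_eq_one] at hj
  have hdvd := orderOf_dvd_of_pow_eq_one hj
  rw [hx, ← pow_succ'] at hdvd
  exact hp2 ((Nat.prime_dvd_prime_iff_eq hp Nat.prime_two).1 (hp.dvd_of_dvd_pow hdvd))

end Cfsg.Agent.PiClosed
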