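import Cfsg.Agent.Lib.PiClosed.TwoFusion
import Cfsg.Agent.Lib.SECoreTwoClosed.UThree.Signal
import Cfsg.Agent.Lib.SECoreTwoClosed.Core.Step
import Cfsg.Agent.Lib.Coprime.Generation

/-!
# The minimal simple group with 2-closed π-subgroups: 2-rank at least three

The join of the cores of the centralisers of the involutions of `Ω₁Z(S)` has odd order, its
normaliser (or that of `Ω₁Z(S)`) is strongly embedded, and two involutions in one coset of it give
an inverted π-element.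
-/

set_option autoImplicit false
set_option linter.unusedSectionVars false
set_option linter.style.haveILetI false

namespace Cfsg.Agent.PiClosed

open Subgroup
open scoped Pointwise
open Cfsg.Agent.SETwoClosed (TwoEl)
open Cfsg.Agent.SECoreTwoClosed (tht)
open Cfsg.Agent.SolvableSignalizer (joinOn)
open Cfsg.Agent.Involutions

universe u

variable {π : Set ℕ} {G : Type u} [Group G] [Finite G]

namespace Min

/-- A strongly embedded π-subgroup with two involutions is impossible. -/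
theorem false_of_embedded (h : Min π G) {M : Subgroup G} (hse : Cfsg.IsStronglyEmbedded M)
    (hM : PiNum π (Nat.card M)) {s t : G} (hsM : s ∈ M) (hs : orderOf s = 2) (htM : t ∈ M)
    (ht : orderOf t = 2) (hst : s ≠ t) : False := by
  classical
  obtain ⟨u, huM, hu⟩ := StronglyEmbedded.exists_involution_notMem hse
  set o : G ⧸ M := ((1 : G) : G ⧸ M) with ho
  have hou : o ≠ u • o := fun e => huM (by
    have e' : ((1 : G) : G ⧸ M) = ((u * 1 : G) : G ⧸ M) := e
    rw [QuotientGroup.eq] at e'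
    simpa using e')
  have hcard := StronglyEmbedded.card_swap hse o (u • o) hou
  have h2 : 1 < Nat.card {i : G // orderOf i = 2 ∧ i • o = u • o} := by
    rw [hcard]
    haveI : Nontrivial {t : G // orderOf t = 2 ∧ t ∈ M} :=
      ⟨⟨⟨s, hs, hsM⟩, ⟨t, ht, htM⟩, fun e => hst (congrArg Subtype.val e)⟩⟩
    exact Finite.one_lt_card_iff_nontrivial.2 inferInstance
  haveI := Finite.one_lt_card_iff_nontrivial.1 h2
  obtain ⟨⟨i, hi, hio⟩, hne⟩ :=
    exists_ne (⟨u, hu, rfl⟩ : {i : G // orderOf i = 2 ∧ i • o = u • o})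
  have hdM : u * i ∈ M := by
    have e : ((i * 1 : G) : G ⧸ M) = ((u * 1 : G) : G ⧸ M) := hio
    rw [QuotientGroup.eq, mul_one, mul_one, Basic.inv_eq hi] at e
    rw [show u * i = (i * u)⁻¹ by rw [mul_inv_rev, Basic.inv_eq hi, Basic.inv_eq hu]]
    exact inv_mem e
  have hd1 : u * i ≠ 1 := fun e => hne (Subtype.ext (by
    show i = u
    rw [eq_inv_of_mul_eq_one_right e, Basic.inv_eq hu]))
  have hinv : u * (u * i) * u⁻¹ = (u * i)⁻¹ := by
    rw [mul_inv_rev, Basic.inv_eq hu, Basic.inv_eq hi]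
    rw [show u * (u * i) * u = u * u * (i * u) by group, Basic.inv_sq_one hu, one_mul]
  have hodd : Odd (orderOf (u * i)) := by
    rw [← Nat.not_even_iff_odd]
    intro he
    obtain ⟨k, hk⟩ := even_iff_two_dvd.1 he
    have hk0 : 0 < k := by have := orderOf_pos (u * i); omega
    have hw : orderOf ((u * i) ^ k) = 2 := by
      rw [orderOf_pow' _ hk0.ne', hk, Nat.gcd_mul_left_left, Nat.mul_div_cancel _ hk0]
    refine huM (StronglyEmbedded.mem_of_commute hse (pow_mem hdM k) hw ?_)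
    have h1 : u * (u * i) ^ k * u⁻¹ = (u * i) ^ k := by
      rw [← conj_pow, hinv, inv_pow]
      exact Basic.inv_eq hw
    exact (mul_inv_eq_iff_eq_mul.1 h1)
  have hp := Nat.minFac_prime (show orderOf (u * i) ≠ 1 from fun e => hd1 (orderOf_eq_one_iff.1 e))
  exact AutPi.no_inverted h.two h.cl hinv hp
    (hM _ hp ((Nat.minFac_dvd _).trans (orderOf_dvd_natCard M hdM)))
    (fun e => Nat.not_even_iff_odd.2 hodd (even_iff_two_dvd.2 (e ▸ Nat.minFac_dvd _)))
    (Nat.minFac_dvd _)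

variable (S : Sylow 2 G)

local notation "Z" => omegaZ (S : Subgroup G)
local notation "W" => joinOn tht (omegaZ (S : Subgroup G))

theorem omegaZ_elementary : Cfsg.IsElementaryAbelian 2 Z :=
  PLocal.ThompsonSubgroup.isElementaryAbelian_iff.mpr
    ⟨fun _ hp q hq => (hp.2.2 q hq.1).eq, fun p hp => by rw [pow_two]; exact hp.2.1⟩

/-- The core of the centraliser of an element commuting with `Z` lies in the join. -/
theorem tht_le_W (h : Min π G) {a : G} (ha2 : a * a = 1)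
    (haZ : ∀ z ∈ Z, Commute a z) : tht a ≤ W := by
  haveI : Fact (Nat.Prime 2) := ⟨Nat.prime_two⟩
  haveI : IsMulCommutative ↥Z := ⟨⟨fun x y => Subtype.ext (x.2.2.2 y y.2.1).eq⟩⟩
  have hcyc : ¬ IsCyclic ↥Z := by
    intro hc
    obtain ⟨g, hg⟩ := hc.exists_ofOrder_eq_natCard
    have h4 := h.four_le_omegaZ S
    have h1 : orderOf g ∣ 2 := orderOf_dvd_of_pow_eq_one (by
      rw [pow_two]; exact Subtype.ext g.2.2.1)
    have := Nat.le_of_dvd two_pos h1
    omega
  have hn : Z ≤ normalizer (tht a : Set G) := fun z hz =>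
    Components.Balance.le_normalizer_centralizerPPrimeCore 2 a
      (mem_centralizer_singleton_iff.2 (haZ z hz).symm.eq)
  obtain ⟨k, hk⟩ := IsPGroup.iff_card.1 (S.2.to_le (omegaZ_le (S : Subgroup G)))
  have hcop : (Nat.card ↥Z).Coprime (Nat.card ↥(tht a)) := by
    rw [hk]
    exact (Nat.coprime_two_left.2 (SECoreTwoClosed.odd_tht a)).pow_left k
  rw [← Coprime.fixedGen_eq hcyc hn hcop]
  refine iSup₂_le fun z hz => ?_
  haveI := h.isSolvable (h.centralizer_ne_top hz.2)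
  refine le_trans ?_ (SECoreTwoClosed.tht_le_join hz.1 hz.2)
  exact Components.Balance.centralizerPPrimeCore_inf_le
    (SEAbelian.isPGroup_zpowers (k := 1) (by rw [pow_one, pow_two, ha2])) (haZ z hz.1).eq
    Components.Balance.pLayer_eq_bot_of_isSolvable

/-- An elementary group of order at least eight containing `Z`. -/
theorem exists_eight (h : Min π G) (h8 : ∃ b ∈ (S : Subgroup G), b * b = 1 ∧
      (b ∉ Z ∨ 8 ≤ Nat.card ↥Z)) :
    ∃ A : Subgroup G, A ≤ (S : Subgroup G) ∧ Z ≤ A ∧ Cfsg.IsElementaryAbelian 2 A ∧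
      8 ≤ Nat.card ↥A := by
  haveI : Fact (Nat.Prime 2) := ⟨Nat.prime_two⟩
  obtain ⟨b, hbS, hb2, hb⟩ := h8
  let A : Subgroup G :=
    { carrier := {x | ∃ z ∈ Z, x = z ∨ x = z * b}
      one_mem' := ⟨1, one_mem _, Or.inl rfl⟩
      mul_mem' := by
        rintro p q ⟨z, hz, hzz⟩ ⟨w, hw, hww⟩
        rcases hzz with e | e <;> rcases hww with e' | e' <;> rw [e, e']
        · exact ⟨z * w, mul_mem hz hw, Or.inl rfl⟩
        · exact ⟨z * w, mul_mem hz hw, Or.inr (mul_assoc _ _ _).symm⟩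
        · exact ⟨z * w, mul_mem hz hw, Or.inr (by
            rw [mul_assoc z b w, ← (hw.2.2 b hbS).eq, ← mul_assoc])⟩
        · exact ⟨z * w, mul_mem hz hw, Or.inl (by
            rw [mul_assoc z b, ← mul_assoc b w b, ← (hw.2.2 b hbS).eq, mul_assoc w b b, hb2, mul_one])⟩
      inv_mem' := by
        rintro p ⟨z, hz, e | e⟩ <;> rw [e]
        · exact ⟨z⁻¹, inv_mem hz, Or.inl rfl⟩
        · exact ⟨z⁻¹, inv_mem hz, Or.inr (by
            rw [mul_inv_rev, inv_eq_of_mul_eq_one_left hb2, inv_eq_of_mul_eq_one_left hz.2.1,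
              (hz.2.2 b hbS).eq])⟩ }
  have hAS : A ≤ (S : Subgroup G) := by
    rintro p ⟨z, hz, e | e⟩ <;> rw [e]
    exacts [hz.1, mul_mem hz.1 hbS]
  have hZA : Z ≤ A := fun z hz => ⟨z, hz, Or.inl rfl⟩
  have hcomm : ∀ p ∈ A, ∀ q ∈ A, Commute p q := by
    rintro p ⟨z, hz, hzz⟩ q ⟨w, hw, hww⟩
    have hzb := hz.2.2 b hbS
    have hwb := hw.2.2 b hbS
    have hzw := hz.2.2 w hw.1
    rcases hzz with e | e <;> rcases hww with e' | e' <;> rw [e, e']
    · exact hzw
    · exact hzw.mul_right hzb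
    · exact hzw.mul_left hwb.symm
    · exact (hzw.mul_right hzb).mul_left (hwb.symm.mul_right (Commute.refl b))
  refine ⟨A, hAS, hZA, PLocal.ThompsonSubgroup.isElementaryAbelian_iff.mpr
    ⟨fun p hp q hq => (hcomm p hp q hq).eq, ?_⟩, ?_⟩
  · rintro p ⟨z, hz, e | e⟩ <;> rw [e]
    · rw [pow_two]; exact hz.2.1
    · rw [(hz.2.2 b hbS).mul_pow, pow_two, pow_two, hz.2.1, hb2, one_mul]
  · rcases hb with hb | hb
    swap
    · exact hb.trans (card_le_of_le hZA)
    obtain ⟨k, hk⟩ := IsPGroup.iff_card.1 (S.2.to_le hAS)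
    have h4 := h.four_le_omegaZ S
    have hlt : Nat.card ↥Z < Nat.card ↥A := by
      refine lt_of_le_of_ne (card_le_of_le hZA) fun e => hb ?_
      rw [eq_of_le_of_card_ge hZA e.ge]
      exact ⟨1, one_mem _, Or.inr (one_mul b).symm⟩
    rw [hk] at hlt ⊢
    rcases Nat.lt_or_ge k 3 with hk3 | hk3
    · have : 2 ^ k ≤ 2 ^ 2 := Nat.pow_le_pow_right two_pos (by omega)
      omega
    · exact le_trans (by norm_num) (Nat.pow_le_pow_right two_pos hk3)

/-- The join is of odd order. -/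
theorem odd_W (h : Min π G) {A : Subgroup G} (hZA : Z ≤ A) (hA : Cfsg.IsElementaryAbelian 2 A)
    (h8 : 8 ≤ Nat.card ↥A) : Odd (Nat.card ↥W) :=
  SECoreTwoClosed.odd_join_of_le hA h8 (fun _ _ ha1 => h.isSolvable (h.centralizer_ne_top ha1)) hZA

/-- The centralisers of the involutions of `S` normalise `Z` modulo their cores. -/
theorem centralizer_le (h : Min π G) {M : Subgroup G} (hZM : normalizer (Z : Set G) ≤ M)
    (hWM : W ≤ M) {a : G} (haS : a ∈ (S : Subgroup G)) (ha : orderOf a = 2) :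
    centralizer ({a} : Set G) ≤ M := by
  haveI : Fact (Nat.Prime 2) := ⟨Nat.prime_two⟩
  set C := centralizer ({a} : Set G) with hC
  have hZC : ∀ z ∈ Z, z ∈ C := fun z hz => mem_centralizer_singleton_iff.2 (hz.2.2 a haS).eq
  have hCtop : C ≠ ⊤ := h.centralizer_ne_top (Basic.ne_one ha)
  obtain ⟨P, hP⟩ := ((S.2.to_le (inf_le_left : (S : Subgroup G) ⊓ C ≤ S)).comap_of_injective
    C.subtype C.subtype_injective).exists_le_sylow
  obtain ⟨R, hR⟩ := (P.2.map C.subtype).exists_le_sylow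
  have hZR : Z ≤ (R : Subgroup G) := fun z hz =>
    hR ⟨⟨z, hZC z hz⟩, hP (show z ∈ (S : Subgroup G) ⊓ C from ⟨hz.1, hZC z hz⟩), rfl⟩
  have hZR' := h.omegaZ_eq_of_le S R hZR
  intro g hg
  obtain ⟨c, hc, hcn⟩ := h.exists_core_mul hCtop P ⟨g, hg⟩
  have hcW : (c : G) ∈ W :=
    tht_le_W S h (Basic.inv_sq_one ha) (fun z hz => (hz.2.2 a haS).symm) ⟨c, hc, rfl⟩
  have hmem : (c : G) * g ∈ normalizer (Z : Set G) := by
    refine mem_normalizer_fintype fun z hz => ?_
    have h1 : (⟨z, hZC z hz⟩ : ↥C) ∈ (P : Subgroup ↥C) :=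
      hP (show z ∈ (S : Subgroup G) ⊓ C from ⟨hz.1, hZC z hz⟩)
    have h2 := (mem_normalizer_iff.1 hcn _).1 h1
    have h3 : (c : G) * g * z * ((c : G) * g)⁻¹ ∈ (R : Subgroup G) := hR ⟨_, h2, rfl⟩
    show (c : G) * g * z * ((c : G) * g)⁻¹ ∈ Z
    rw [← hZR']
    exact h.omegaZ_closed R (by rw [hZR']; exact hz) h3
  have := mul_mem (inv_mem (hWM hcW)) (hZM hmem)
  rwa [inv_mul_cancel_left] at this

/-- The normaliser is strongly embedded. -/
theorem stronglyEmbedded (h : Min π G) {M : Subgroup G} (hM : M ≠ ⊤)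
    (hZM : normalizer (Z : Set G) ≤ M) (hWM : W ≤ M) : Cfsg.IsStronglyEmbedded M := by
  haveI : Fact (Nat.Prime 2) := ⟨Nat.prime_two⟩
  have hNS : normalizer ((S : Subgroup G) : Set G) ≤ M := (normalizer_le_omegaZ S).trans hZM
  have hSM : (S : Subgroup G) ≤ M := le_normalizer.trans hNS
  obtain ⟨z, hz, hzo⟩ := h.exists_omegaZ S
  have heven : Even (Nat.card M) :=
    even_iff_two_dvd.2 (hzo ▸ orderOf_dvd_natCard M (hSM hz.1))
  refine StronglyEmbedded.of_conj hM heven fun t htM ht g hg => ?_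
  have move : ∀ x ∈ M, orderOf x = 2 → ∃ m ∈ M, m * x * m⁻¹ ∈ (S : Subgroup G) := by
    intro x hxM hx
    have hp : IsPGroup 2 ↥(zpowers (⟨x, hxM⟩ : ↥M)) :=
      IsPGroup.of_card (n := 1) (by rw [Nat.card_zpowers, orderOf_mk, hx, pow_one])
    obtain ⟨Q, hQ⟩ := hp.exists_le_sylow
    obtain ⟨m, hm⟩ := MulAction.exists_smul_eq ↥M Q (S.subtype hSM)
    refine ⟨m, m.2, ?_⟩
    have h1 : m * (⟨x, hxM⟩ : ↥M) * m⁻¹ ∈ ((S.subtype hSM : Sylow 2 ↥M) : Subgroup ↥M) := by
      rw [← hm, Sylow.coe_subgroup_smul]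
      exact ⟨_, hQ (mem_zpowers _), rfl⟩
    rw [Sylow.coe_subtype, mem_subgroupOf] at h1
    exact h1
  obtain ⟨m, hm, hms⟩ := move t htM ht
  obtain ⟨m', hm', hms'⟩ := move _ hg (by rw [Basic.orderOf_conj, ht])
  set a := m * t * m⁻¹ with ha
  have hao : orderOf a = 2 := by rw [ha, Basic.orderOf_conj, ht]
  have h1 : (m' * g * m⁻¹) * a * (m' * g * m⁻¹)⁻¹ = m' * (g * t * g⁻¹) * m'⁻¹ := by
    rw [ha]; group
  obtain ⟨n, hn, e⟩ := h.fusion S hms (g := m' * g * m⁻¹) (by rw [h1]; exact hms')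
  have hc : n⁻¹ * (m' * g * m⁻¹) ∈ centralizer ({a} : Set G) := by
    rw [mem_centralizer_singleton_iff, ← mul_inv_eq_iff_eq_mul]
    calc n⁻¹ * (m' * g * m⁻¹) * a * (n⁻¹ * (m' * g * m⁻¹))⁻¹
        = n⁻¹ * ((m' * g * m⁻¹) * a * (m' * g * m⁻¹)⁻¹) * n := by group
      _ = a := by rw [← e]; group
  have h2 := h.centralizer_le S hZM hWM hms hao hc
  have h3 : m'⁻¹ * (n * (n⁻¹ * (m' * g * m⁻¹))) * m ∈ M :=
    mul_mem (mul_mem (inv_mem hm') (mul_mem (hNS hn) h2)) hm
  rwa [show m'⁻¹ * (n * (n⁻¹ * (m' * g * m⁻¹))) * m = g by group] at h3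

/-- The 2-rank is at most two. -/
theorem false_of_eight (h : Min π G) {A : Subgroup G} (hAS : A ≤ (S : Subgroup G)) (hZA : Z ≤ A)
    (hA : Cfsg.IsElementaryAbelian 2 A) (h8 : 8 ≤ Nat.card ↥A) : False := by
  haveI : Fact (Nat.Prime 2) := ⟨Nat.prime_two⟩
  haveI := h.simple
  have hWodd := h.odd_W S hZA hA h8
  have hNW : normalizer (Z : Set G) ≤ normalizer (W : Set G) := SECoreTwoClosed.normalizer_le_join _
  obtain ⟨z, hz, hzo⟩ := h.exists_omegaZ S
  have hZbot : Z ≠ ⊥ := fun e => Basic.ne_one hzo (mem_bot.1 (e ▸ hz))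
  have hZtop : Z ≠ ⊤ := fun e => h.nc ⟨⟨fun a b =>
    ((e ▸ mem_top a : a ∈ Z).2.2 b (omegaZ_le _ (e ▸ mem_top b))).eq⟩⟩
  -- the core of a suitable proper overgroup of the normaliser vanishes
  have key : ∀ M : Subgroup G, M ≠ ⊤ → normalizer (Z : Set G) ≤ M → W ≤ M →
      Cfsg.oddCore ↥M = ⊥ := by
    intro M hM hZM hWM
    have hse := h.stronglyEmbedded S hM hZM hWM
    haveI hOn : (Cfsg.oddCore ↥M).Normal := PLocal.Cores.pPrimeCore_normal'
    set O := (Cfsg.oddCore ↥M).map M.subtype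
    have hSM : (S : Subgroup G) ≤ M :=
      le_normalizer.trans ((normalizer_le_omegaZ S).trans hZM)
    have hH : SECoreTwoClosed.Hyp M O := by
      refine ⟨hse, map_subtype_le _, fun g hg => mem_normalizer_fintype ?_, ?_, ?_,
        ⟨A, hAS.trans hSM, hA, h8⟩⟩
      · rintro _ ⟨w, hw, rfl⟩
        exact ⟨⟨g, hg⟩ * w * (⟨g, hg⟩ : ↥M)⁻¹, hOn.conj_mem w hw _, rfl⟩
      · rw [card_subtype]; exact Agent.Cores.oddCore_odd
      · rintro a ha b hb ⟨i, hi⟩ ⟨j, hj⟩
        have lift : ∀ (x : G) (hx : x ∈ M) (k : ℕ), x ^ 2 ^ k ∈ O →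
            TwoEl (QuotientGroup.mk' (Cfsg.oddCore ↥M) ⟨x, hx⟩) := fun x hx k hk => by
          obtain ⟨w, hw, e⟩ := hk
          exact ⟨k, by
            rw [← map_pow, QuotientGroup.mk'_apply, QuotientGroup.eq_one_iff]
            rwa [show (⟨x, hx⟩ : ↥M) ^ 2 ^ k = w from Subtype.ext e.symm]⟩
        obtain ⟨k, hk⟩ := h.closed_mod hM le_rfl (lift a ha i hi) (lift b hb j hj)
        rw [← map_pow, QuotientGroup.mk'_apply, QuotientGroup.eq_one_iff] at hk
        exact ⟨k, _, hk, rfl⟩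
    have hle := SECoreTwoClosed.coreLemma G M O hH
    have hO : Cfsg.oddCore G = ⊥ :=
      (IsSimpleGroup.eq_bot_or_eq_top_of_normal _ (PLocal.Cores.pPrimeCore_normal' :
        (Cfsg.oddCore G).Normal)).resolve_right fun e => by
        have hodd := Agent.Cores.oddCore_odd (G := G)
        rw [show Cfsg.oddCore G = ⊤ from e, card_top] at hodd
        exact Nat.not_even_iff_odd.2 hodd (even_iff_two_dvd.2 h.two_dvd)
    rw [hO, le_bot_iff] at hle
    exact (map_eq_bot_iff_of_injective _ M.subtype_injective).1 hle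
  by_cases hW : W = ⊥
  · -- the normaliser of `Z` is a π-group
    have hM : normalizer (Z : Set G) ≠ ⊤ := h.normalizer_ne_top hZbot hZtop
    have hse := h.stronglyEmbedded S hM le_rfl (hW ▸ bot_le)
    obtain ⟨n, hn, hne⟩ := h.exists_omegaZ_ne S hz hzo
    exact h.false_of_embedded hse (h.piNum_of_core hM (key _ hM le_rfl (hW ▸ bot_le)))
      (le_normalizer ((mem_normalizer_iff.1 (normalizer_le_omegaZ S hn) z).1 hz))
      (by rw [Basic.orderOf_conj, hzo]) (le_normalizer hz) hzo hne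
  · have hWtop : W ≠ ⊤ := fun e => by
      rw [e, card_top] at hWodd
      exact Nat.not_even_iff_odd.2 hWodd (even_iff_two_dvd.2 h.two_dvd)
    have hM : normalizer (W : Set G) ≠ ⊤ := h.normalizer_ne_top hW hWtop
    have hO := key _ hM hNW le_normalizer
    have hle : (W).subgroupOf (normalizer (W : Set G)) ≤ Cfsg.oddCore ↥(normalizer (W : Set G)) :=
      Agent.Cores.le_oddCore (by
        rw [Nat.card_congr (subgroupOfEquivOfLe le_normalizer).toEquiv]; exact hWodd)
    rw [hO, le_bot_iff, subgroupOf_eq_bot] at hle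
    exact hW (disjoint_self.1 (hle.mono_right le_normalizer))

end Min

end Cfsg.Agent.PiClosed
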