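import Cfsg.Agent.Lib.PiClosed.TwoClass
import Cfsg.Agent.Lib.ZStar.Main
import Cfsg.Agent.Lib.SEAbelian.ReduceTools
import Cfsg.Agent.Lib.Involutions.StronglyEmbedded
import Cfsg.Agent.Lib.Transfer.Frobenius

/-!
# The minimal simple group with 2-closed π-subgroups: fusion

Every 2-local subgroup is 2-closed modulo its core, so two Sylow 2-subgroups are conjugate by an
element centralising their intersection. Hence the normaliser of a Sylow 2-subgroup controls fusion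
and `Ω₁Z(S)` is strongly closed of order at least four.
-/

set_option autoImplicit false
set_option linter.unusedSectionVars false
set_option linter.style.haveILetI false

namespace Cfsg.Agent.PiClosed

open Subgroup
open scoped Pointwise
open Cfsg.Agent.SETwoClosed (TwoEl)

universe u

/-- The minimal situation. -/
structure Min (π : Set ℕ) (G : Type u) [Group G] : Prop where
  simple : IsSimpleGroup G
  nc : ¬ IsMulCommutative G
  two : 2 ∈ π
  aut : AutPi π G
  cl : TwoCl π G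
  sub : ∀ M : Subgroup G, M ≠ ⊤ → Closed π ↥M

/-- The involutions of the centre of `S`, with the identity. -/
def omegaZ {G : Type u} [Group G] (S : Subgroup G) : Subgroup G where
  carrier := {x | x ∈ S ∧ x * x = 1 ∧ ∀ s ∈ S, Commute x s}
  one_mem' := ⟨one_mem S, one_mul 1, fun s _ => Commute.one_left s⟩
  mul_mem' := fun {a b} ha hb => ⟨mul_mem ha.1 hb.1, by
    have hab : Commute a b := ha.2.2 b hb.1
    calc a * b * (a * b) = a * (b * a) * b := by group
      _ = a * a * (b * b) := by rw [← hab.eq]; group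
      _ = 1 := by rw [ha.2.1, hb.2.1, one_mul],
    fun s hs => (ha.2.2 s hs).mul_left (hb.2.2 s hs)⟩
  inv_mem' := fun {a} ha => ⟨inv_mem ha.1, by rw [← mul_inv_rev, ha.2.1, inv_one],
    fun s hs => (ha.2.2 s hs).inv_left⟩

theorem mem_omegaZ {G : Type u} [Group G] {S : Subgroup G} {x : G} :
    x ∈ omegaZ S ↔ x ∈ S ∧ x * x = 1 ∧ ∀ s ∈ S, Commute x s := Iff.rfl

theorem omegaZ_le {G : Type u} [Group G] (S : Subgroup G) : omegaZ S ≤ S := fun _ h => h.1

/-- The elements carrying one Sylow subgroup to another carry `Ω₁Z`. -/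
theorem conj_mem_omegaZ {G : Type u} [Group G] {S T : Sylow 2 G} {g z : G} (hg : g • S = T)
    (hz : z ∈ omegaZ (S : Subgroup G)) : g * z * g⁻¹ ∈ omegaZ (T : Subgroup G) := by
  have hmem : ∀ s ∈ (S : Subgroup G), g * s * g⁻¹ ∈ (T : Subgroup G) := fun s hs => by
    rw [← hg, Sylow.coe_subgroup_smul]
    exact ⟨s, hs, rfl⟩
  refine ⟨hmem z hz.1, ?_, fun t ht => ?_⟩
  · rw [show g * z * g⁻¹ * (g * z * g⁻¹) = g * (z * z) * g⁻¹ by group, hz.2.1, mul_one, mul_inv_cancel]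
  · rw [← hg, Sylow.coe_subgroup_smul] at ht
    obtain ⟨s, hs, rfl⟩ := ht
    exact (hz.2.2 s hs).map (MulAut.conj g).toMonoidHom

variable {π : Set ℕ} {G : Type u} [Group G] [Finite G]

namespace Min

theorem center_eq_bot (h : Min π G) : center G = ⊥ :=
  haveI := h.simple
  (IsSimpleGroup.eq_bot_or_eq_top_of_normal _ (inferInstance : (center G).Normal)).resolve_right
    fun e => h.nc ⟨⟨fun a b => (mem_center_iff.1 (e ▸ mem_top a) b).symm⟩⟩

theorem centralizer_ne_top (h : Min π G) {a : G} (ha : a ≠ 1) :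
    centralizer ({a} : Set G) ≠ ⊤ := fun e => ha (by
  rw [← mem_bot, ← h.center_eq_bot, mem_center_iff]
  intro g
  exact mem_centralizer_singleton_iff.1 (e ▸ mem_top g))

theorem normalizer_ne_top (h : Min π G) {Q : Subgroup G} (h1 : Q ≠ ⊥) (h2 : Q ≠ ⊤) :
    normalizer (Q : Set G) ≠ ⊤ := fun e => by
  haveI := h.simple
  rcases IsSimpleGroup.eq_bot_or_eq_top_of_normal Q (normalizer_eq_top_iff.1 e) with h' | h'
  exacts [h1 h', h2 h']

theorem isSolvable (h : Min π G) {M : Subgroup G} (hM : M ≠ ⊤) : Group.IsSolvable ↥M :=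
  ((h.sub M hM).structure_of h.two (twoCl_subgroup h.cl M)).1

theorem closed_mod (h : Min π G) {M : Subgroup G} (hM : M ≠ ⊤) {N : Subgroup ↥M} [N.Normal]
    (hN : Cfsg.oddCore ↥M ≤ N) {x y : ↥M} (hx : TwoEl (QuotientGroup.mk' N x))
    (hy : TwoEl (QuotientGroup.mk' N y)) : TwoEl (QuotientGroup.mk' N (x * y)) :=
  ((h.sub M hM).structure_of h.two (twoCl_subgroup h.cl M)).2.1 N hN x y hx hy

theorem piNum_of_core (h : Min π G) {M : Subgroup G} (hM : M ≠ ⊤) (hO : Cfsg.oddCore ↥M = ⊥) :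
    PiNum π (Nat.card M) :=
  ((h.sub M hM).structure_of h.two (twoCl_subgroup h.cl M)).2.2 hO

/-- A proper subgroup is the product of its core and the normaliser of a Sylow 2-subgroup. -/
theorem exists_core_mul (h : Min π G) {M : Subgroup G} (hM : M ≠ ⊤) (P : Sylow 2 ↥M) (g : ↥M) :
    ∃ c ∈ Cfsg.oddCore ↥M, c * g ∈ normalizer ((P : Subgroup ↥M) : Set ↥M) := by
  haveI : Fact (Nat.Prime 2) := ⟨Nat.prime_two⟩
  set O := Cfsg.oddCore ↥M
  haveI hOn : O.Normal := PLocal.Cores.pPrimeCore_normal'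
  set q := QuotientGroup.mk' O
  let E : Subgroup (↥M ⧸ O) :=
    { carrier := {x | TwoEl x}
      one_mem' := ⟨0, one_pow _⟩
      mul_mem' := fun {a b} ha hb => by
        obtain ⟨a, rfl⟩ := QuotientGroup.mk'_surjective O a
        obtain ⟨b, rfl⟩ := QuotientGroup.mk'_surjective O b
        have := h.closed_mod hM (N := O) le_rfl ha hb
        rwa [map_mul] at this
      inv_mem' := fun {a} ⟨k, hk⟩ => ⟨k, by rw [inv_pow, hk, inv_one]⟩ }
  haveI : E.Normal := ⟨fun x ⟨k, hk⟩ y => ⟨k, by rw [conj_pow, hk, mul_one, mul_inv_cancel]⟩⟩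
  have hE : IsPGroup 2 ↥E := fun x => by
    obtain ⟨k, hk⟩ := x.2
    exact ⟨k, Subtype.ext (by simpa using hk)⟩
  set PQ := P.mapSurjective (f := q) (QuotientGroup.mk'_surjective O)
  have hle : (PQ : Subgroup (↥M ⧸ O)) ≤ E := fun x hx => by
    obtain ⟨k, hk⟩ := PQ.2 ⟨x, hx⟩
    exact ⟨k, congrArg Subtype.val hk⟩
  have heq : E = (P : Subgroup ↥M).map q := (PQ.3 hE hle).trans rfl
  set L := (P : Subgroup ↥M) ⊔ O with hL
  have hLE : L = E.comap q := by
    rw [heq, comap_map_eq, QuotientGroup.ker_mk']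
  haveI : L.Normal := hLE ▸ (inferInstance : E.Normal).comap q
  have htop := Sylow.normalizer_sup_eq_top (P.subtype (le_sup_left : (P : Subgroup ↥M) ≤ L))
  rw [Sylow.coe_subtype, map_subgroupOf_eq_of_le (le_sup_left : (P : Subgroup ↥M) ≤ L)] at htop
  have htop' : O ⊔ normalizer ((P : Subgroup ↥M) : Set ↥M) = ⊤ := by
    rw [← top_le_iff, ← htop]
    exact sup_le le_sup_right (sup_le (le_normalizer.trans le_sup_right) le_sup_left)
  obtain ⟨c, hc, n, hn, e⟩ := mem_sup_of_normal_left.1 (htop' ▸ mem_top g : g ∈ O ⊔ _)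
  exact ⟨c⁻¹, inv_mem hc, by rwa [← e, inv_mul_cancel_left]⟩

/-- Two Sylow 2-subgroups are conjugate by an element centralising their intersection. -/
theorem exists_conj_fixing (h : Min π G) (S T : Sylow 2 G) :
    ∃ g : G, g • S = T ∧ ∀ x ∈ (S : Subgroup G), x ∈ (T : Subgroup G) → Commute g x := by
  haveI : Fact (Nat.Prime 2) := ⟨Nat.prime_two⟩
  suffices key : ∀ (n : ℕ) (S T : Sylow 2 G),
      Nat.card G ≤ Nat.card ↥((S : Subgroup G) ⊓ T) + n →
        ∃ g : G, g • S = T ∧ ∀ x ∈ (S : Subgroup G), x ∈ (T : Subgroup G) → Commute g x from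
    key (Nat.card G) S T (Nat.le_add_left _ _)
  intro n
  induction n with
  | zero =>
    intro S T hn
    have htop : (S : Subgroup G) ⊓ T = ⊤ := eq_top_of_le_card _ (by simpa using hn)
    refine ⟨1, ?_, fun x _ _ => Commute.one_left x⟩
    rw [one_smul]
    exact Sylow.ext ((top_le_iff.1 (htop ▸ inf_le_left)).trans (top_le_iff.1 (htop ▸ inf_le_right)).symm)
  | succ n ih =>
  intro S T hn
  set Q := (S : Subgroup G) ⊓ T with hQ
  by_cases hST : S = T
  · exact ⟨1, by rw [one_smul, hST], fun x _ _ => Commute.one_left x⟩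
  by_cases hQ1 : Q = ⊥
  · obtain ⟨g, hg⟩ := MulAction.exists_smul_eq G S T
    refine ⟨g, hg, fun x hx hx' => ?_⟩
    have hxQ : x ∈ Q := ⟨hx, hx'⟩
    rw [hQ1, mem_bot] at hxQ
    rw [hxQ]
    exact Commute.one_right g
  have hQS : Q < (S : Subgroup G) := lt_of_le_of_ne inf_le_left fun e => hST (Sylow.ext
    (eq_of_le_of_card_ge (e ▸ inf_le_right) (le_of_eq (Nat.card_congr (T.equiv S).toEquiv))))
  have hQT : Q < (T : Subgroup G) := lt_of_le_of_ne inf_le_right fun e => hST (Sylow.ext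
    (eq_of_le_of_card_ge (e ▸ inf_le_left) (le_of_eq (Nat.card_congr (S.equiv T).toEquiv))).symm)
  set N := normalizer (Q : Set G) with hN
  have hNtop : N ≠ ⊤ := by
    refine h.normalizer_ne_top hQ1 fun e => ?_
    have := e ▸ hQS
    exact absurd this (not_lt_of_ge le_top)
  have hgrow : ∀ R : Sylow 2 G, Q < (R : Subgroup G) → Q < (R : Subgroup G) ⊓ N := fun R hR =>
    Transfer.Frobenius.lt_inf_normalizer R.2 hR
  obtain ⟨P1, hP1⟩ := (S.2.to_le (inf_le_left : (S : Subgroup G) ⊓ N ≤ S) |>.comap_of_injective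
    N.subtype N.subtype_injective).exists_le_sylow
  obtain ⟨P2, hP2⟩ := (T.2.to_le (inf_le_left : (T : Subgroup G) ⊓ N ≤ T) |>.comap_of_injective
    N.subtype N.subtype_injective).exists_le_sylow
  obtain ⟨a, ha⟩ := MulAction.exists_smul_eq ↥N P1 P2
  obtain ⟨c, hc, hca⟩ := h.exists_core_mul hNtop P2 a⁻¹
  -- `P2` is `c P1`
  have hP12 : (c • P1 : Sylow 2 ↥N) = P2 := by
    have h1 : (c * a⁻¹) • P2 = P2 := Sylow.smul_eq_iff_mem_normalizer.2 hca
    rwa [mul_smul, show a⁻¹ • P2 = P1 by rw [← ha, inv_smul_smul]] at h1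
  have hcQ : ∀ x ∈ Q, Commute (c : G) x := by
    intro x hx
    haveI hOn : (Cfsg.oddCore ↥N).Normal := PLocal.Cores.pPrimeCore_normal'
    have hxN : x ∈ N := le_normalizer hx
    set d : G := (c : G) * x * (c : G)⁻¹ * x⁻¹
    have hdQ : d ∈ Q := mul_mem ((mem_normalizer_iff.1 c.2 x).1 hx) (inv_mem hx)
    have hdO : (⟨d, le_normalizer hdQ⟩ : ↥N) ∈ Cfsg.oddCore ↥N := by
      have : (⟨d, le_normalizer hdQ⟩ : ↥N) = c * ((⟨x, hxN⟩ : ↥N) * c⁻¹ * (⟨x, hxN⟩ : ↥N)⁻¹) :=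
        Subtype.ext (by simp only [d, Subgroup.coe_mul, InvMemClass.coe_inv]; group)
      rw [this]
      exact mul_mem hc (hOn.conj_mem _ (inv_mem hc) _)
    have hodd : Odd (orderOf d) := by
      rw [← orderOf_mk d (le_normalizer hdQ : d ∈ N)]
      exact SECore.odd_orderOf_of_mem Agent.Cores.oddCore_odd hdO
    obtain ⟨k, hk⟩ := S.2 ⟨d, hdQ.1⟩
    have hd1 : d = 1 := SETwoClosed.TwoEl.eq_one_of_odd ⟨k, congrArg Subtype.val hk⟩ hodd
    exact mul_inv_eq_iff_eq_mul.1 (mul_inv_eq_one.1 hd1)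
  obtain ⟨R, hR⟩ := (P1.2.map N.subtype).exists_le_sylow
  have hbig : ∀ {A B : Subgroup G}, Q < A → A ≤ B → Nat.card ↥Q < Nat.card ↥B := fun {A B} h1 h2 =>
    lt_of_lt_of_le (lt_of_le_of_ne (card_le_of_le h1.le) fun e => h1.ne
      (eq_of_le_of_card_ge h1.le e.ge)) (card_le_of_le h2)
  have hSR : (S : Subgroup G) ⊓ N ≤ (S : Subgroup G) ⊓ R := le_inf inf_le_left fun x hx =>
    hR ⟨⟨x, hx.2⟩, hP1 (show x ∈ (S : Subgroup G) ⊓ N from hx), rfl⟩
  have hTR : (T : Subgroup G) ⊓ N ≤ ((((c : G) • R : Sylow 2 G)) : Subgroup G) ⊓ T :=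
    le_inf (fun x hx => by
      have hx2 : (⟨x, hx.2⟩ : ↥N) ∈ (P2 : Subgroup ↥N) := hP2 (show x ∈ (T : Subgroup G) ⊓ N from hx)
      rw [← hP12, Sylow.coe_subgroup_smul] at hx2
      obtain ⟨y, hy, hyx⟩ := hx2
      rw [Sylow.coe_subgroup_smul]
      exact ⟨y, hR ⟨y, hy, rfl⟩, congrArg Subtype.val hyx⟩) inf_le_left
  have hQc : ∀ x ∈ Q, (c : G) * x * (c : G)⁻¹ = x := fun x hx => by
    rw [(hcQ x hx).eq, mul_inv_cancel_right]
  obtain ⟨g₁, hg₁, hf₁⟩ := ih S R (by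
    have := hbig (hgrow S hQS) hSR
    omega)
  obtain ⟨g₂, hg₂, hf₂⟩ := ih ((c : G) • R) T (by
    have := hbig (hgrow T hQT) hTR
    omega)
  refine ⟨g₂ * c * g₁, by rw [mul_smul, mul_smul, hg₁, hg₂], fun x hxS hxT => ?_⟩
  have hxQ : x ∈ Q := ⟨hxS, hxT⟩
  have hxR : x ∈ (R : Subgroup G) := (hSR (⟨hxS, le_normalizer hxQ⟩)).2
  have hxcR : x ∈ (((c : G) • R : Sylow 2 G) : Subgroup G) := (hTR ⟨hxT, le_normalizer hxQ⟩).1
  exact ((hf₂ x hxcR hxT).mul_left (hcQ x hxQ)).mul_left (hf₁ x hxS hxR)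

/-- The normaliser of a Sylow 2-subgroup controls fusion in it. -/
theorem fusion (h : Min π G) (S : Sylow 2 G) {x g : G} (hx : x ∈ (S : Subgroup G))
    (hgx : g * x * g⁻¹ ∈ (S : Subgroup G)) :
    ∃ n ∈ normalizer ((S : Subgroup G) : Set G), n * x * n⁻¹ = g * x * g⁻¹ := by
  have hxT : x ∈ ((g⁻¹ • S : Sylow 2 G) : Subgroup G) := by
    rw [Sylow.coe_subgroup_smul]
    exact ⟨_, hgx, show g⁻¹ * (g * x * g⁻¹) * g⁻¹⁻¹ = x by group⟩
  obtain ⟨k, hk, hkx⟩ := h.exists_conj_fixing S (g⁻¹ • S)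
  refine ⟨g * k, Sylow.smul_eq_iff_mem_normalizer.1 (by rw [mul_smul, hk, smul_inv_smul]), ?_⟩
  calc g * k * x * (g * k)⁻¹ = g * (k * x * k⁻¹) * g⁻¹ := by group
    _ = g * x * g⁻¹ := by rw [(hkx x hx hxT).eq, mul_inv_cancel_right]

theorem normalizer_le_omegaZ (S : Sylow 2 G) :
    normalizer ((S : Subgroup G) : Set G) ≤ normalizer (omegaZ (S : Subgroup G) : Set G) := by
  have hle : ∀ n ∈ normalizer ((S : Subgroup G) : Set G), ∀ z ∈ omegaZ (S : Subgroup G),
      n * z * n⁻¹ ∈ omegaZ (S : Subgroup G) := fun n hn z hz =>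
    conj_mem_omegaZ (Sylow.smul_eq_iff_mem_normalizer.2 hn) hz
  exact fun n hn => mem_normalizer_fintype fun z hz => hle n hn z hz

/-- `Ω₁Z(S)` is strongly closed in `S`. -/
theorem omegaZ_closed (h : Min π G) (S : Sylow 2 G) {z g : G} (hz : z ∈ omegaZ (S : Subgroup G))
    (hgz : g * z * g⁻¹ ∈ (S : Subgroup G)) : g * z * g⁻¹ ∈ omegaZ (S : Subgroup G) := by
  obtain ⟨n, hn, e⟩ := h.fusion S hz.1 hgz
  exact e ▸ (mem_normalizer_iff.1 (normalizer_le_omegaZ S hn) z).1 hz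

/-- A Sylow subgroup containing `Ω₁Z(S)` has it as its own. -/
theorem omegaZ_eq_of_le (h : Min π G) (S R : Sylow 2 G)
    (hR : omegaZ (S : Subgroup G) ≤ (R : Subgroup G)) :
    omegaZ (R : Subgroup G) = omegaZ (S : Subgroup G) := by
  obtain ⟨g, hg, hgc⟩ := h.exists_conj_fixing S R
  have hfix : ∀ z ∈ omegaZ (S : Subgroup G), g * z * g⁻¹ = z := fun z hz => by
    rw [(hgc z hz.1 (hR hz)).eq, mul_inv_cancel_right]
  refine le_antisymm (fun y hy => ?_) fun z hz => hfix z hz ▸ conj_mem_omegaZ hg hz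
  have h1 := conj_mem_omegaZ (g := g⁻¹) (T := S) (by rw [← hg, inv_smul_smul]) hy
  have h2 := hfix _ h1
  rw [show g * (g⁻¹ * y * g⁻¹⁻¹) * g⁻¹ = y by group] at h2
  rw [h2]
  exact h1

theorem two_dvd (h : Min π G) : 2 ∣ Nat.card G := by
  rw [← even_iff_two_dvd, ← Nat.not_odd_iff_even]
  intro ho
  haveI := h.simple
  haveI := S0205.result ho
  exact h.nc ⟨⟨IsSimpleGroup.comm_iff_isSolvable.2 inferInstance⟩⟩

/-- A central involution of `S` exists. -/
theorem exists_omegaZ (h : Min π G) (S : Sylow 2 G) :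
    ∃ z ∈ omegaZ (S : Subgroup G), orderOf z = 2 := by
  haveI : Fact (Nat.Prime 2) := ⟨Nat.prime_two⟩
  have h2S : 2 ∣ Nat.card (S : Subgroup G) := S.dvd_card_of_dvd_card h.two_dvd
  haveI : Nontrivial ↥(S : Subgroup G) := Finite.one_lt_card_iff_nontrivial.1
    (lt_of_lt_of_le one_lt_two (Nat.le_of_dvd Nat.card_pos h2S))
  haveI := S.2.center_nontrivial
  have hc2 : 2 ∣ Nat.card ↥(center ↥(S : Subgroup G)) := by
    obtain ⟨k, hk⟩ := IsPGroup.iff_card.1 (S.2.to_subgroup (center ↥(S : Subgroup G)))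
    have : 1 < Nat.card ↥(center ↥(S : Subgroup G)) := Finite.one_lt_card_iff_nontrivial.2 inferInstance
    rw [hk] at this ⊢
    exact dvd_pow_self 2 fun e => by rw [e] at this; norm_num at this
  obtain ⟨⟨⟨z, hzS⟩, hzc⟩, hzo⟩ := exists_prime_orderOf_dvd_card' 2 hc2
  rw [orderOf_mk, orderOf_mk] at hzo
  refine ⟨z, ⟨hzS, ?_, fun s hs => ?_⟩, hzo⟩
  · rw [← pow_two, ← hzo, pow_orderOf_eq_one]
  · exact congrArg Subtype.val (mem_center_iff.1 hzc ⟨s, hs⟩).symm

/-- `Ω₁Z(S)` has a second involution (the `Z*`-theorem). -/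
theorem exists_omegaZ_ne (h : Min π G) (S : Sylow 2 G) {z : G} (hz : z ∈ omegaZ (S : Subgroup G))
    (ho : orderOf z = 2) : ∃ n ∈ normalizer ((S : Subgroup G) : Set G), n * z * n⁻¹ ≠ z := by
  haveI : Fact (Nat.Prime 2) := ⟨Nat.prime_two⟩
  haveI := h.simple
  by_contra hall
  push Not at hall
  have hz1 : z ≠ 1 := fun e => by rw [e, orderOf_one] at ho; norm_num at ho
  have hiso : Cfsg.IsIsolatedInvolution z := by
    refine ⟨ho, fun g hg => ?_⟩
    set w := g * z * g⁻¹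
    have hw : w * w = 1 := by
      simp only [w]
      rw [show g * z * g⁻¹ * (g * z * g⁻¹) = g * (z * z) * g⁻¹ by group, hz.2.1, mul_one, mul_inv_cancel]
    have hw2 : IsPGroup 2 ↥(zpowers w) := SEAbelian.isPGroup_zpowers (k := 1) (by rw [pow_one, pow_two, hw])
    have hz2 : IsPGroup 2 ↥(zpowers z) := SEAbelian.isPGroup_zpowers (k := 1) (by rw [pow_one, pow_two, hz.2.1])
    have hn : zpowers w ≤ normalizer (zpowers z : Set G) := by
      refine zpowers_le.2 (centralizer_le_normalizer _ (mem_centralizer_iff.2 fun a ha => ?_))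
      obtain ⟨i, rfl⟩ := mem_zpowers_iff.1 ha
      exact (hg.zpow_left i).eq
    obtain ⟨T, hT⟩ := (hz2.to_sup_of_normal_left' hw2 hn).exists_le_sylow
    obtain ⟨k, hk, hkc⟩ := h.exists_conj_fixing S T
    have hzT : z ∈ (T : Subgroup G) := hT (mem_sup_left (mem_zpowers z))
    have hwT : k⁻¹ * w * k⁻¹⁻¹ ∈ (S : Subgroup G) := by
      have hw' : w ∈ (T : Subgroup G) := hT (mem_sup_right (mem_zpowers w))
      rw [← hk, Sylow.coe_subgroup_smul] at hw'
      obtain ⟨s, hs, e⟩ := hw'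
      rw [← e]
      show k⁻¹ * (k * s * k⁻¹) * k⁻¹⁻¹ ∈ (S : Subgroup G)
      rwa [show k⁻¹ * (k * s * k⁻¹) * k⁻¹⁻¹ = s by group]
    have hwT' : (k⁻¹ * g) * z * (k⁻¹ * g)⁻¹ ∈ (S : Subgroup G) := by
      rwa [show (k⁻¹ * g) * z * (k⁻¹ * g)⁻¹ = k⁻¹ * w * k⁻¹⁻¹ by simp only [w]; group]
    obtain ⟨n, hn', e⟩ := h.fusion S hz.1 hwT'
    rw [hall n hn'] at e
    have e2 : w = k * z * k⁻¹ := by
      nth_rewrite 1 [e]
      simp only [w]; group
    rw [e2, (hkc z hz.1 hzT).eq, mul_inv_cancel_right]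
  have hO : Cfsg.oddCore G = ⊥ :=
    (IsSimpleGroup.eq_bot_or_eq_top_of_normal _ (PLocal.Cores.pPrimeCore_normal' :
      (Cfsg.oddCore G).Normal)).resolve_right fun e => by
      have hodd := Agent.Cores.oddCore_odd (G := G)
      rw [show Cfsg.oddCore G = ⊤ from e, card_top] at hodd
      exact Nat.not_even_iff_odd.2 hodd (even_iff_two_dvd.2 h.two_dvd)
  have := ZStar.Main.mem_center_of_isolated hO hiso
  rw [h.center_eq_bot, mem_bot] at this
  exact hz1 this

theorem four_le_omegaZ (h : Min π G) (S : Sylow 2 G) :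
    4 ≤ Nat.card ↥(omegaZ (S : Subgroup G)) := by
  haveI : Fact (Nat.Prime 2) := ⟨Nat.prime_two⟩
  obtain ⟨z, hz, ho⟩ := h.exists_omegaZ S
  obtain ⟨n, hn, hne⟩ := h.exists_omegaZ_ne S hz ho
  have hp : IsPGroup 2 ↥(omegaZ (S : Subgroup G)) := S.2.to_le (omegaZ_le _)
  obtain ⟨k, hk⟩ := IsPGroup.iff_card.1 hp
  have hz1 : z ≠ 1 := fun e => by rw [e, orderOf_one] at ho; norm_num at ho
  have hnz := (mem_normalizer_iff.1 (normalizer_le_omegaZ S hn) z).1 hz
  have h3 : 3 ≤ Nat.card ↥(omegaZ (S : Subgroup G)) := by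
    classical
    let f : Fin 3 → ↥(omegaZ (S : Subgroup G)) := ![1, ⟨z, hz⟩, ⟨n * z * n⁻¹, hnz⟩]
    have hf : Function.Injective f := by
      intro a b hab
      have hab' := congrArg Subtype.val hab
      fin_cases a <;> fin_cases b <;> simp [f] at hab' ⊢
      all_goals first
        | exact hz1 hab'
        | exact hz1 hab'.symm
        | exact hne hab'.symm
        | exact hne hab'
        | exact hz1 (conj_eq_one_iff.1 hab'.symm)
        | exact hz1 (conj_eq_one_iff.1 hab')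
    simpa using Nat.card_le_card_of_injective f hf
  rw [hk] at h3 ⊢
  rcases Nat.lt_or_ge k 2 with hk2 | hk2
  · have : 2 ^ k ≤ 2 ^ 1 := Nat.pow_le_pow_right two_pos (by omega)
    omega
  · exact (show 4 = 2 ^ 2 by norm_num) ▸ Nat.pow_le_pow_right two_pos hk2

end Min

end Cfsg.Agent.PiClosed
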