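import Cfsg.Agent.Lib.PiClosed.TwoSmall

/-!
# π-homogeneous groups with 2-closed π-subgroups, `2 ∈ π`

The π'-elements form a subgroup if and only if every automiser of a nontrivial π-subgroup is a
π-group.
-/

set_option autoImplicit false
set_option linter.unusedSectionVars false
set_option linter.style.haveILetI false

namespace Cfsg.Agent.PiClosed

open Subgroup
open Cfsg.Agent.SETwoClosed (TwoEl)

universe u

variable {π : Set ℕ} {G : Type u} [Group G] [Finite G]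

theorem twoCl_of_hyp
    (hcl : ∀ H : Subgroup G, (∀ p : ℕ, p.Prime → p ∣ Nat.card ↥H → p ∈ π) → ∀ P : Sylow 2 ↥H,
      (P : Subgroup ↥H).Normal) : TwoCl π G := by
  haveI : Fact (Nat.Prime 2) := ⟨Nat.prime_two⟩
  intro H hH x hx y hy hx2 hy2
  obtain ⟨P⟩ := (inferInstance : Nonempty (Sylow 2 ↥H))
  haveI := hcl H hH P
  have key : ∀ z (hz : z ∈ H), TwoEl z → (⟨z, hz⟩ : ↥H) ∈ (P : Subgroup ↥H) := fun z hz ⟨k, hk⟩ =>
    SEAbelian.mem_sylow_of_normalizer P (le_normalizer_of_normal (mem_top _)) (k := k)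
      (Subtype.ext (by simpa using hk))
  obtain ⟨k, hk⟩ := P.2 ⟨_, mul_mem (key x hx hx2) (key y hy hy2)⟩
  exact ⟨k, by simpa using congrArg Subtype.val (congrArg Subtype.val hk)⟩

theorem closed_of_twoCl (h2 : 2 ∈ π) (hcl : TwoCl π G) (hA : AutPi π G) : Closed π G :=
  closed_of_class (solvEither_of_two h2) (fun G _ => TwoCl π G)
    (fun _ _ _ K h => twoCl_subgroup h K) (fun _ _ _ R _ hR h => twoCl_quotient h R hR)
    (fun _T _ _ hs hnc hP hAT hsub => (Min.absurd_min ⟨hs, hnc, h2, hAT, hP, hsub⟩).elim)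
    (Nat.card G) G le_rfl hcl hA

/-- If the π'-elements form a subgroup then the automisers of π-subgroups are π-groups. -/
theorem homogeneous_of_subgroup (K : Subgroup G)
    (hK : ∀ x : G, x ∈ K ↔ ∀ p : ℕ, p.Prime → p ∣ orderOf x → p ∉ π)
    (H : Subgroup G) (hH : ∀ p : ℕ, p.Prime → p ∣ Nat.card ↥H → p ∈ π) (p : ℕ) (hp : p.Prime)
    (hd : p ∣ (centralizer (H : Set G)).relIndex (normalizer (H : Set G))) : p ∈ π := by
  by_contra hpπ
  haveI := Fact.mk hp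
  obtain ⟨P⟩ := (inferInstance : Nonempty (Sylow p ↥(normalizer (H : Set G))))
  have hle : (P : Subgroup ↥(normalizer (H : Set G))) ≤
      (centralizer (H : Set G)).subgroupOf (normalizer (H : Set G)) := by
    rintro ⟨g, hg⟩ hgP
    obtain ⟨e, he⟩ := P.2 ⟨_, hgP⟩
    have hge : g ^ p ^ e = 1 := by simpa using congrArg Subtype.val (congrArg Subtype.val he)
    have hgK : g ∈ K := (hK g).2 fun r hr hrd => by
      rwa [(Nat.prime_dvd_prime_iff_eq hr hp).1
        (hr.dvd_of_dvd_pow (hrd.trans (orderOf_dvd_of_pow_eq_one hge)))]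
    rw [mem_subgroupOf]
    refine mem_centralizer_iff.2 fun h hh => ?_
    have hKn : h * g⁻¹ * h⁻¹ ∈ K := (hK _).2 (by
      rw [show h * g⁻¹ * h⁻¹ = MulAut.conj h g⁻¹ from rfl, MulEquiv.orderOf_eq, orderOf_inv]
      exact (hK g).1 hgK)
    have h1 : g * h * g⁻¹ * h⁻¹ ∈ H := mul_mem ((mem_normalizer_iff.1 hg h).1 hh) (inv_mem hh)
    have h2 : g * h * g⁻¹ * h⁻¹ ∈ K := by
      rw [show g * h * g⁻¹ * h⁻¹ = g * (h * g⁻¹ * h⁻¹) by group]
      exact mul_mem hgK hKn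
    have h3 : g * h * g⁻¹ * h⁻¹ = 1 := orderOf_eq_one_iff.1 <| Nat.eq_one_iff_not_exists_prime_dvd.2
      fun r hr hrd => (hK _).1 h2 r hr hrd (hH r hr (hrd.trans (orderOf_dvd_natCard H h1)))
    exact (mul_inv_eq_iff_eq_mul.1 (mul_inv_eq_one.1 h3)).symm
  exact P.not_dvd_index (hd.trans (index_dvd_of_le hle))

theorem two_main (h2 : 2 ∈ π)
    (hcl : ∀ H : Subgroup G, (∀ p : ℕ, p.Prime → p ∣ Nat.card ↥H → p ∈ π) → ∀ P : Sylow 2 ↥H,
      (P : Subgroup ↥H).Normal) :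
    (∃ K : Subgroup G, ∀ x : G, x ∈ K ↔ ∀ p : ℕ, p.Prime → p ∣ orderOf x → p ∉ π) ↔
      (∀ H : Subgroup G, H ≠ ⊥ → (∀ p : ℕ, p.Prime → p ∣ Nat.card ↥H → p ∈ π) →
        ∀ p : ℕ, p.Prime → p ∣ (Subgroup.centralizer (H : Set G)).relIndex
          (Subgroup.normalizer (H : Set G)) → p ∈ π) :=
  ⟨fun ⟨K, hK⟩ H _ hH p hp hd => homogeneous_of_subgroup K hK H hH p hp hd,
    fun hhom => (closed_of_twoCl h2 (twoCl_of_hyp hcl) (autPi_of_homogeneous hhom)).exists_subgroup⟩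

end Cfsg.Agent.PiClosed
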