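import Cfsg.Agent.Lib.PiClosed.TwoEmbedded
import Cfsg.Agent.Lib.PiClosed.Models
import Cfsg.Agent.Lib.CyclicSylowInter.Main
import Cfsg.Agent.Lib.CyclicSylowInter.KindFacts
import Cfsg.Agent.S0486
import Cfsg.Agent.S0516

/-!
# The minimal simple group with 2-closed π-subgroups: 2-rank at most two

`Ω₁Z(S)` is a four-group moved by an element of order three, so `3 ∈ π`. The Sylow subgroup is
dihedral (then `PSL₂(q)` or `A₇` has a real element of an odd order in `π`) or of type `U₃(4)` (then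
the normaliser of `S` is a strongly embedded π-group).
-/

set_option autoImplicit false
set_option linter.unusedSectionVars false
set_option linter.style.haveILetI false

namespace Cfsg.Agent.PiClosed

open Subgroup
open scoped Pointwise
open Cfsg.Agent.Involutions

universe u

variable {π : Set ℕ} {G : Type u} [Group G] [Finite G]

namespace Min

theorem card_omegaZ_four (h : Min π G) (h2 : Cfsg.PRankLE 2 2 G) (S : Sylow 2 G) :
    Nat.card ↥(omegaZ (S : Subgroup G)) = 4 :=
  le_antisymm (h2 _ ⟨⟨fun x y => Subtype.ext (x.2.2.2 y y.2.1).eq⟩⟩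
    fun a ha => by rw [pow_two]; exact ha.2.1) (h.four_le_omegaZ S)

theorem three_mem (h : Min π G) (h2 : Cfsg.PRankLE 2 2 G) (S : Sylow 2 G) : 3 ∈ π := by
  classical
  haveI : Fact (Nat.Prime 2) := ⟨Nat.prime_two⟩
  by_contra h3
  set Z := omegaZ (S : Subgroup G) with hZ
  obtain ⟨z, hz, hzo⟩ := h.exists_omegaZ S
  obtain ⟨n, hn, hne⟩ := h.exists_omegaZ_ne S hz hzo
  have hcard : Nat.card ↥Z = 4 := h.card_omegaZ_four h2 S
  obtain ⟨e, m, hm, hnm⟩ := Nat.exists_eq_two_pow_mul_odd (orderOf_pos n).ne'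
  -- the 2-part of `n` fixes `z`
  have hnN : n ∈ normalizer (Z : Set G) := normalizer_le_omegaZ S hn
  have hZπ : PiNum π (Nat.card ↥Z) := fun p hp hd => by
    rw [show Nat.card ↥Z = 2 ^ 2 from hcard] at hd
    rw [(Nat.prime_dvd_prime_iff_eq hp Nat.prime_two).1 (hp.dvd_of_dvd_pow hd)]
    exact h.two
  have hZne : Z ≠ ⊥ := fun e' => by rw [e', card_bot] at hcard; norm_num at hcard
  obtain ⟨k, hk, hkc⟩ := h.aut Z hZne hZπ _ (pow_mem hnN (2 ^ e))
  -- the automiser of a four-group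
  set x := n ^ 2 ^ e with hx
  have hxN : x ∈ normalizer (Z : Set G) := pow_mem hnN _
  have h6 : x ^ 6 ∈ centralizer (Z : Set G) := by
    let T := {a : ↥Z // a ≠ 1}
    haveI := Fintype.ofFinite ↥Z
    haveI := Fintype.ofFinite T
    have hT : Fintype.card (Equiv.Perm T) = 6 := by
      rw [Fintype.card_perm]
      have : Fintype.card T = 3 := by
        rw [Fintype.card_subtype_compl, Fintype.card_subtype_eq, ← Nat.card_eq_fintype_card, hcard]
      rw [this]
      rfl
    let ψ : Equiv.Perm T :=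
      { toFun := fun a => ⟨Z.normalizerMonoidHom ⟨x, hxN⟩ a.1, fun e' => a.2 (by
          simpa using (Z.normalizerMonoidHom ⟨x, hxN⟩).injective (e'.trans (map_one _).symm))⟩
        invFun := fun a => ⟨(Z.normalizerMonoidHom ⟨x, hxN⟩).symm a.1, fun e' => a.2 (by
          simpa using (Z.normalizerMonoidHom ⟨x, hxN⟩).symm.injective (e'.trans (map_one _).symm))⟩
        left_inv := fun a => Subtype.ext (MulEquiv.symm_apply_apply _ _)
        right_inv := fun a => Subtype.ext (MulEquiv.apply_symm_apply _ _) }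
    have hψ : ∀ (i : ℕ) (a : T), (((ψ ^ i) a).1 : G) = x ^ i * ((a.1 : ↥Z) : G) * (x ^ i)⁻¹ := by
      intro i
      induction i with
      | zero => intro a; simp
      | succ i ih =>
        intro a
        rw [pow_succ' ψ, Equiv.Perm.mul_apply]
        show x * (((ψ ^ i) a).1 : G) * x⁻¹ = _
        rw [ih a, pow_succ' x]
        group
    refine mem_centralizer_iff.2 fun a ha => ?_
    by_cases ha1 : a = 1
    · rw [ha1, mul_one, one_mul]
    have h1 : ψ ^ 6 = 1 := by rw [← hT]; exact pow_card_eq_one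
    have := hψ 6 ⟨⟨a, ha⟩, fun e' => ha1 (congrArg Subtype.val e')⟩
    rw [h1] at this
    exact (mul_inv_eq_iff_eq_mul.1 this.symm).symm
  have hxodd : Odd (orderOf x) := hm.of_dvd_nat (orderOf_dvd_of_pow_eq_one (by
    rw [hx, ← pow_mul, ← hnm, pow_orderOf_eq_one]))
  -- the only possible prime is three
  have hxc : x ∈ centralizer (Z : Set G) := by
    have hg : (Nat.gcd (Nat.gcd 6 k) (orderOf x)) = 1 := by
      refine Nat.eq_one_iff_not_exists_prime_dvd.2 fun p hp hd => ?_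
      have h6' := (hd.trans (Nat.gcd_dvd_left _ _)).trans (Nat.gcd_dvd_left 6 k)
      have hk' := (hd.trans (Nat.gcd_dvd_left _ _)).trans (Nat.gcd_dvd_right 6 k)
      have ho := hd.trans (Nat.gcd_dvd_right _ _)
      rcases hp.dvd_mul.1 (show p ∣ 2 * 3 from h6') with h' | h'
      · rw [(Nat.prime_dvd_prime_iff_eq hp Nat.prime_two).1 h'] at ho
        exact Nat.not_even_iff_odd.2 hxodd (even_iff_two_dvd.2 ho)
      · have e3 := (Nat.prime_dvd_prime_iff_eq hp Nat.prime_three).1 h'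
        exact h3 (hk 3 Nat.prime_three (e3 ▸ hk'))
    have hgk : x ^ Nat.gcd 6 k ∈ centralizer (Z : Set G) := by
      rw [← zpow_natCast, Nat.gcd_eq_gcd_ab, zpow_add, zpow_mul, zpow_mul, zpow_natCast, zpow_natCast]
      exact mul_mem (zpow_mem h6 _) (zpow_mem hkc _)
    obtain ⟨j, hj⟩ := exists_pow_eq_self_of_coprime (show Nat.Coprime (Nat.gcd 6 k) (orderOf x) from hg)
    exact hj ▸ pow_mem hgk j
  have hy : n ^ m ∈ (S : Subgroup G) := SEAbelian.mem_sylow_of_normalizer S (pow_mem hn m) (k := e) (by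
    rw [← pow_mul, mul_comm, ← hnm, pow_orderOf_eq_one])
  have hcy : n ^ m ∈ centralizer (Z : Set G) :=
    mem_centralizer_iff.2 fun a ha => (ha.2.2 _ hy).eq
  have hnc := SEAbelian.mem_of_parts (K := centralizer (Z : Set G)) hm hxc hcy
  exact hne (mul_inv_eq_iff_eq_mul.2 (mem_centralizer_iff.1 hnc z hz).symm)

/-- The centre of `S` has two involutions. -/
theorem false_of_central_unique (h : Min π G) (S : Sylow 2 G)
    (hP : ∀ a c : ↥(S : Subgroup G), a * a = 1 → c * c = 1 → a ≠ 1 → c ≠ 1 →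
      (∀ g, Commute a g) → (∀ g, Commute c g) → a = c) : False := by
  obtain ⟨z, hz, hzo⟩ := h.exists_omegaZ S
  obtain ⟨n, hn, hne⟩ := h.exists_omegaZ_ne S hz hzo
  have hw := (mem_normalizer_iff.1 (normalizer_le_omegaZ S hn) z).1 hz
  have key : ∀ w (hw : w ∈ omegaZ (S : Subgroup G)), (⟨w, hw.1⟩ : ↥(S : Subgroup G)) * ⟨w, hw.1⟩ = 1 ∧
      ∀ g : ↥(S : Subgroup G), Commute (⟨w, hw.1⟩ : ↥(S : Subgroup G)) g :=
    fun w hw => ⟨Subtype.ext hw.2.1, fun g => Subtype.ext (hw.2.2 g g.2).eq⟩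
  have hz1 : z ≠ 1 := Basic.ne_one hzo
  exact hne (congrArg Subtype.val (hP ⟨_, hw.1⟩ ⟨_, hz.1⟩ (key _ hw).1 (key _ hz).1
    (fun e => hz1 (conj_eq_one_iff.1 (congrArg Subtype.val e)))
    (fun e => hz1 (congrArg Subtype.val e)) (key _ hw).2 (key _ hz).2))

theorem false_of_psl (h : Min π G) (h3 : 3 ∈ π) {F : Type} [Field F] [Fintype F]
    (hF : 3 < Fintype.card F) (f : G ≃* Matrix.ProjectiveSpecialLinearGroup (Fin 2) F) : False := by
  refine psl_general hF (autPi_of_injective h.aut f.symm.toMonoidHom f.symm.injective) ?_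
    Nat.prime_three h3 (by norm_num) ?_
  · intro c y hy r hr hrπ hr2 hd
    refine AutPi.no_inverted h.two h.cl (c := f.symm c) (y := f.symm y) ?_ hr hrπ hr2
      (by rwa [f.symm.orderOf_eq])
    rw [← map_mul, ← map_inv, ← map_mul, hy, map_inv]
  · have hsl := Classical.SmallIso.natCard_pslTwo F
    rw [Classical.GL2.natCard_SL_two] at hsl
    set q := Fintype.card F
    have h3d : 3 ∣ Nat.gcd 2 (q - 1) * Nat.card (Matrix.ProjectiveSpecialLinearGroup (Fin 2) F) := by
      rw [hsl]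
      rcases (show q % 3 = 0 ∨ q % 3 = 1 ∨ q % 3 = 2 by omega) with e | e | e
      · exact dvd_mul_of_dvd_left (by omega) _
      · exact dvd_mul_of_dvd_right (dvd_mul_of_dvd_left (by omega) _) _
      · exact dvd_mul_of_dvd_right (dvd_mul_of_dvd_right (by omega) _) _
    rcases Nat.prime_three.dvd_mul.1 h3d with h' | h'
    · exact absurd (Nat.le_of_dvd two_pos (h'.trans (Nat.gcd_dvd_left _ _))) (by norm_num)
    · exact h'

/-- The 2-rank is at least three. -/
theorem false_of_rank_two (h : Min π G) (h2 : Cfsg.PRankLE 2 2 G) : False := by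
  classical
  haveI : Fact (Nat.Prime 2) := ⟨Nat.prime_two⟩
  haveI := h.simple
  let S : Sylow 2 G := default
  let F := GaloisField 2 4
  haveI : Fintype F := Fintype.ofFinite F
  have hF : Fintype.card F = 16 := by
    rw [← Nat.card_eq_fintype_card, GaloisField.card 2 4 (by norm_num)]; norm_num
  let P : Sylow 2 (Cfsg.PSU 3 F 4) := default
  rcases Cfsg.Agent.S0516.result h.nc h2 S hF P with ⟨m, hm, ⟨e⟩⟩ | hqd | hw | he
  · have h3 := h.three_mem h2 S
    rcases GW.simpleGW G S m hm ⟨e⟩ with ⟨K, iK, jK, hKodd, ⟨f⟩⟩ | ⟨⟨f⟩⟩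
    · exact h.false_of_psl h3 (CIT.SThreeTwo.three_lt_card h.nc hKodd f) f
    · obtain ⟨a, b, -, -, -, -, ha, hb, -⟩ := alt7_facts
      refine AutPi.no_inverted h.two h.cl (c := f.symm a) (y := f.symm b) ?_ Nat.prime_three h3
        (by norm_num) (by rw [f.symm.orderOf_eq, ha])
      rw [← map_mul, ← map_inv, ← map_mul, hb, map_inv]
  · obtain ⟨D⟩ := Involutions.QuasiDihedral.exists_gens hqd
    refine h.false_of_central_unique S fun a c _ _ ha hc hac hcc => ?_
    rcases D.eq_center hac with h' | h'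
    · exact absurd h' ha
    · rcases D.eq_center hcc with h'' | h''
      · exact absurd h'' hc
      · rw [h', h'']
  · obtain ⟨D⟩ := Involutions.Wreathed.exists_gens hw
    refine h.false_of_central_unique S fun a c ha2 hc2 ha hc hac hcc => ?_
    obtain ⟨i, rfl⟩ := D.eq_central hac
    obtain ⟨j, rfl⟩ := D.eq_central hcc
    rw [D.U_mul_U, D.U_eq_one] at ha2 hc2
    rcases D.add_self.1 ha2.1 with rfl | rfl
    · exact absurd (D.U_eq_one.2 ⟨rfl, rfl⟩) ha
    rcases D.add_self.1 hc2.1 with rfl | rfl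
    · exact absurd (D.U_eq_one.2 ⟨rfl, rfl⟩) hc
    rfl
  -- type `U₃(4)`
  obtain ⟨f⟩ := S0486.result hF S P he
  have hk : CyclicSylowInter.KindTI G :=
    Or.inr (Or.inr ⟨2, F, inferInstance, inferInstance, le_rfl, by rw [hF]; norm_num, ⟨f⟩⟩)
  obtain ⟨hTI, -, hdat⟩ := CyclicSylowInter.kindTI_facts hk
  obtain ⟨q, i, hd⟩ := hdat S
  obtain ⟨z, hz, hzo⟩ := h.exists_omegaZ S
  obtain ⟨n, hn, hne⟩ := h.exists_omegaZ_ne S hz hzo
  obtain ⟨T, hT⟩ := hd.exists_other
  set M := normalizer ((S : Subgroup G) : Set G) with hMdef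
  have hSM : (S : Subgroup G) ≤ M := le_normalizer
  have hM : M ≠ ⊤ := by
    refine h.normalizer_ne_top (fun e => ?_) fun e => ?_
    · have := hz.1
      rw [e, mem_bot] at this
      exact Basic.ne_one hzo this
    · exact hT (Sylow.ext (by
        rw [e]
        exact eq_top_of_card_eq _ ((Nat.card_congr (T.equiv S).toEquiv).trans (by rw [e, card_top]))))
  have hse : Cfsg.IsStronglyEmbedded M := by
    refine StronglyEmbedded.of_conj hM (even_iff_two_dvd.2 (hzo ▸ orderOf_dvd_natCard M (hSM hz.1)))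
      fun t ht ht2 g hg => ?_
    have hmem : ∀ x ∈ M, orderOf x = 2 → x ∈ (S : Subgroup G) := fun x hx hx2 =>
      SEAbelian.mem_sylow_of_normalizer S hx (k := 1) (by rw [pow_one, ← hx2, pow_orderOf_eq_one])
    have h1 : g * t * g⁻¹ ∈ ((g • S : Sylow 2 G) : Subgroup G) := by
      rw [Sylow.coe_subgroup_smul]
      exact ⟨t, hmem t ht ht2, rfl⟩
    exact Sylow.smul_eq_iff_mem_normalizer.1 (hTI S (g • S) (g * t * g⁻¹)
      (by rw [Basic.orderOf_conj, ht2]) (hmem _ hg (by rw [Basic.orderOf_conj, ht2])) h1).symm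
  refine h.false_of_embedded hse (h.piNum_of_core hM ?_)
    (hSM (((mem_normalizer_iff.1 (normalizer_le_omegaZ S hn) z).1 hz).1))
    (by rw [Basic.orderOf_conj, hzo]) (hSM hz.1) hzo hne
  -- an odd element centralising `S` fixes every Sylow subgroup
  haveI hOn : (Cfsg.oddCore ↥M).Normal := PLocal.Cores.pPrimeCore_normal'
  rw [eq_bot_iff]
  intro c hc
  rw [mem_bot]
  have hcodd : Odd (orderOf (c : G)) := by
    rw [Subgroup.orderOf_coe]; exact SECore.odd_orderOf_of_mem Agent.Cores.oddCore_odd hc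
  have hcS : ∀ s ∈ (S : Subgroup G), Commute (c : G) s := by
    intro s hs
    set d : G := (c : G) * s * (c : G)⁻¹ * s⁻¹
    have hdS : d ∈ (S : Subgroup G) :=
      mul_mem ((mem_normalizer_iff.1 c.2 s).1 hs) (inv_mem hs)
    have hdO : (⟨d, hSM hdS⟩ : ↥M) ∈ Cfsg.oddCore ↥M := by
      have : (⟨d, hSM hdS⟩ : ↥M) = c * ((⟨s, hSM hs⟩ : ↥M) * c⁻¹ * (⟨s, hSM hs⟩ : ↥M)⁻¹) :=
        Subtype.ext (by simp only [d, Subgroup.coe_mul, InvMemClass.coe_inv]; group)
      rw [this]
      exact mul_mem hc (hOn.conj_mem _ (inv_mem hc) _)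
    have hodd : Odd (orderOf d) := by
      rw [← orderOf_mk d (hSM hdS : d ∈ M)]
      exact SECore.odd_orderOf_of_mem Agent.Cores.oddCore_odd hdO
    obtain ⟨k, hk⟩ := S.2 ⟨d, hdS⟩
    exact mul_inv_eq_iff_eq_mul.1 (mul_inv_eq_one.1
      (SETwoClosed.TwoEl.eq_one_of_odd ⟨k, congrArg Subtype.val hk⟩ hodd))
  have hfix : ∀ U : Sylow 2 G, (c : G) • U = U := by
    intro U
    by_cases hU : U = S
    · rw [hU]; exact Sylow.smul_eq_iff_mem_normalizer.2 c.2
    have hcU : (c : G) • U ≠ S := fun e' => hU (by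
      have := congrArg ((c : G)⁻¹ • ·) e'
      simp only [inv_smul_smul] at this
      rw [this]
      exact Sylow.smul_eq_iff_mem_normalizer.2 (inv_mem c.2))
    obtain ⟨s, hs, -⟩ := hd.regular U ((c : G) • U) hU hcU
    have h1 : ((s : G)⁻¹ * c) • U = U := by rw [mul_smul, ← hs, inv_smul_smul]
    obtain ⟨k, hk⟩ := S.2 s
    have hk' : (s : G) ^ 2 ^ k = 1 := congrArg Subtype.val hk
    have h2 : ((c : G) ^ 2 ^ k) • U = U := by
      have h3 := pow_mem (Sylow.smul_eq_iff_mem_normalizer.1 h1) (2 ^ k)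
      rw [(hcS s s.2).symm.inv_left.mul_pow, inv_pow, hk', inv_one, one_mul] at h3
      exact Sylow.smul_eq_iff_mem_normalizer.2 h3
    obtain ⟨j, hj⟩ := exists_pow_eq_self_of_coprime
      (((Nat.coprime_two_left.2 hcodd).pow_left k) : Nat.Coprime (2 ^ k) (orderOf (c : G)))
    have h4 := pow_mem (Sylow.smul_eq_iff_mem_normalizer.1 h2) j
    rw [hj] at h4
    exact Sylow.smul_eq_iff_mem_normalizer.2 h4
  let N : Subgroup G := ⨅ U : Sylow 2 G, normalizer ((U : Subgroup G) : Set G)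
  have hN : N.Normal := by
    refine ⟨fun x hx g => ?_⟩
    simp only [N, mem_iInf] at hx ⊢
    intro U
    refine Sylow.smul_eq_iff_mem_normalizer.1 ?_
    rw [mul_smul, mul_smul, Sylow.smul_eq_iff_mem_normalizer.2 (hx (g⁻¹ • U)), smul_inv_smul]
  rcases IsSimpleGroup.eq_bot_or_eq_top_of_normal N hN with h' | h'
  · have : (c : G) ∈ N := by
      simp only [N, mem_iInf]
      exact fun U => Sylow.smul_eq_iff_mem_normalizer.1 (hfix U)
    rw [h', mem_bot] at this
    exact Subtype.ext this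
  · exact absurd (top_le_iff.1 (h' ▸ (iInf_le _ S : N ≤ M))) hM

/-- No minimal group exists. -/
theorem absurd_min (h : Min π G) : False := by
  classical
  haveI : Fact (Nat.Prime 2) := ⟨Nat.prime_two⟩
  by_cases h2 : Cfsg.PRankLE 2 2 G
  · exact h.false_of_rank_two h2
  rw [Cfsg.PRankLE] at h2
  push Not at h2
  obtain ⟨A, hA1, hA2, hA8⟩ := h2
  have hP : IsPGroup 2 A := fun a => ⟨1, Subtype.ext (by simpa using hA2 a a.2)⟩
  obtain ⟨S, hAS⟩ := hP.exists_le_sylow
  have hb : ∃ b ∈ (S : Subgroup G), b * b = 1 ∧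
      (b ∉ omegaZ (S : Subgroup G) ∨ 8 ≤ Nat.card ↥(omegaZ (S : Subgroup G))) := by
    by_cases h8 : 8 ≤ Nat.card ↥(omegaZ (S : Subgroup G))
    · exact ⟨1, one_mem _, one_mul 1, Or.inr h8⟩
    obtain ⟨b, hbA, hbZ⟩ : ∃ b ∈ A, b ∉ omegaZ (S : Subgroup G) := by
      by_contra hall
      push Not at hall
      have h1 := card_le_of_le (show A ≤ omegaZ (S : Subgroup G) from hall)
      obtain ⟨k, hk⟩ := IsPGroup.iff_card.1 hP
      rw [hk] at hA8 h1
      have h3 : 3 ≤ k := by
        by_contra h'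
        have : 2 ^ k ≤ 2 ^ 2 := Nat.pow_le_pow_right two_pos (by omega)
        omega
      have : 2 ^ 3 ≤ 2 ^ k := Nat.pow_le_pow_right two_pos h3
      omega
    exact ⟨b, hAS hbA, by rw [← pow_two]; exact hA2 b hbA, Or.inl hbZ⟩
  obtain ⟨B, hBS, hZB, hB, hB8⟩ := h.exists_eight S hb
  exact h.false_of_eight S hBS hZB hB hB8

end Min

end Cfsg.Agent.PiClosed
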